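import Cfsg.Agent.Lib.Char.Orthogonality
import Cfsg.Prelude.Def_Perm
import Mathlib.RepresentationTheory.Invariants
import Mathlib.LinearAlgebra.Matrix.ToLin

/-! Multiplicity-free representations and commuting endomorphisms. -/

set_option autoImplicit false
set_option linter.unusedSectionVars false

namespace Cfsg.Agent.Lib.Perm.CharMult

open Module Representation
open Cfsg.Agent.Lib.Char

universe u v w

variable {G : Type u} [Group G] [Fintype G] {W : Type w} [AddCommGroup W] [Module ℂ W]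
  [FiniteDimensional ℂ W] (σ : Representation ℂ G W)

/-- A linear map commuting with a representation. -/
def Commutes (S : W →ₗ[ℂ] W) : Prop := ∀ g x, S (σ g x) = σ g (S x)

theorem finrank_le_one (h : ∀ χ : G → ℂ, IsIrrCharacter G χ →
      classInner σ.character χ = 0 ∨ classInner σ.character χ = 1)
    {V : Type v} [AddCommGroup V] [Module ℂ V] [FiniteDimensional ℂ V]
    (ρ : Representation ℂ G V) [ρ.IsIrreducible] :
    finrank ℂ (IntertwiningMap ρ σ) ≤ 1 := by
  rcases h _ (isIrrCharacter_character ρ) with h' | h' <;> rw [classInner_character] at h'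
  · have : finrank ℂ (IntertwiningMap ρ σ) = 0 := by exact_mod_cast h'
    omega
  · have : finrank ℂ (IntertwiningMap ρ σ) = 1 := by exact_mod_cast h'
    omega

theorem commute_apply (h : ∀ χ : G → ℂ, IsIrrCharacter G χ →
      classInner σ.character χ = 0 ∨ classInner σ.character χ = 1)
    {S T : W →ₗ[ℂ] W} (hS : Commutes σ S) (hT : Commutes σ T) :
    ∀ (n : ℕ) {V : Type v} [AddCommGroup V] [Module ℂ V] [FiniteDimensional ℂ V]
      (ρ : Representation ℂ G V), finrank ℂ V = n →
        ∀ φ : V →ₗ[ℂ] W, (∀ g x, φ (ρ g x) = σ g (φ x)) → ∀ x, S (T (φ x)) = T (S (φ x)) := by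
  intro n
  induction n using Nat.strong_induction_on with
  | _ n ih =>
    intro V _ _ _ ρ hn φ hφ x
    rcases irreducible_or_split ρ with h0 | hirr | ⟨U, U', hc, h1, h2⟩
    · have : Subsingleton V := Module.finrank_zero_iff.mp h0
      rw [Subsingleton.elim x 0]; simp
    · obtain ⟨v₀, hv₀⟩ := finrank_le_one_iff.mp (finrank_le_one σ h ρ)
      let mk : (ψ : V →ₗ[ℂ] W) → (∀ g y, ψ (ρ g y) = σ g (ψ y)) → IntertwiningMap ρ σ :=
        fun ψ hψ => ψ.intertwiningMap_of_isIntertwiningMap ρ σ hψ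
      obtain ⟨a, ha⟩ := hv₀ (mk φ hφ)
      obtain ⟨s, hs⟩ := hv₀ (mk (S ∘ₗ v₀.toLinearMap) fun g y => by
        simp [v₀.isIntertwining, hS g])
      obtain ⟨t, ht⟩ := hv₀ (mk (T ∘ₗ v₀.toLinearMap) fun g y => by
        simp [v₀.isIntertwining, hT g])
      have ea : ∀ y, φ y = a • v₀ y := fun y =>
        (congrArg (fun F : IntertwiningMap ρ σ => F y) ha).symm
      have es : ∀ y, S (v₀ y) = s • v₀ y := fun y =>
        (congrArg (fun F : IntertwiningMap ρ σ => F y) hs).symm
      have et : ∀ y, T (v₀ y) = t • v₀ y := fun y =>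
        (congrArg (fun F : IntertwiningMap ρ σ => F y) ht).symm
      simp only [ea, map_smul, es, et, smul_smul]
      congr 1
      ring
    · have key : ∀ U : Subrepresentation ρ, finrank ℂ U.toSubmodule < n → ∀ y ∈ U.toSubmodule,
          S (T (φ y)) = T (S (φ y)) := fun U hU y hy =>
        ih _ hU U.toRepresentation rfl (φ ∘ₗ U.toSubmodule.subtype)
          (fun g z => hφ g z.1) ⟨y, hy⟩
      obtain ⟨y, hy, z, hz, rfl⟩ := Submodule.mem_sup.mp
        (hc.sup_eq_top ▸ Submodule.mem_top : x ∈ U.toSubmodule ⊔ U'.toSubmodule)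
      simp only [map_add, key U (hn ▸ h1) y hy, key U' (hn ▸ h2) z hz]

/-- An averaged left inverse. -/
theorem exists_retraction {V : Type v} [AddCommGroup V] [Module ℂ V] (ρ : Representation ℂ G V)
    (φ : V →ₗ[ℂ] W) (hφ : ∀ g x, φ (ρ g x) = σ g (φ x)) (hinj : LinearMap.ker φ = ⊥) :
    ∃ ψ : W →ₗ[ℂ] V, (∀ g y, ψ (σ g y) = ρ g (ψ y)) ∧ ∀ x, ψ (φ x) = x := by
  obtain ⟨L, hL⟩ := φ.exists_leftInverse_of_injective hinj
  refine ⟨(Fintype.card G : ℂ)⁻¹ • ∑ g : G, ρ g ∘ₗ L ∘ₗ σ g⁻¹, fun g y => ?_, fun x => ?_⟩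
  · simp only [LinearMap.smul_apply, LinearMap.sum_apply, LinearMap.comp_apply, map_smul, map_sum]
    congr 1
    refine Fintype.sum_equiv (Equiv.mulLeft g⁻¹) _ _ fun k => ?_
    simp [← Module.End.mul_apply, ← map_mul]
  · have : ∀ g : G, ρ g (L (σ g⁻¹ (φ x))) = x := fun g => by
      rw [← hφ, show L (φ (ρ g⁻¹ x)) = ρ g⁻¹ x from LinearMap.congr_fun hL _,
        ← Module.End.mul_apply, ← map_mul, mul_inv_cancel, map_one, Module.End.one_apply]
    simp only [LinearMap.smul_apply, LinearMap.sum_apply, LinearMap.comp_apply, this,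
      Finset.sum_const, Finset.card_univ]
    rw [← Nat.cast_smul_eq_nsmul ℂ, smul_smul,
      inv_mul_cancel₀ (Nat.cast_ne_zero.mpr Fintype.card_ne_zero), one_smul]

/-- Multiplicity-free means commuting intertwiners. -/
theorem multiplicity_free_iff :
    (∀ χ : G → ℂ, IsIrrCharacter G χ →
      classInner σ.character χ = 0 ∨ classInner σ.character χ = 1) ↔
    ∀ S T : W →ₗ[ℂ] W, Commutes σ S → Commutes σ T → S ∘ₗ T = T ∘ₗ S := by
  constructor
  · intro h S T hS hT
    exact LinearMap.ext fun x =>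
      commute_apply σ h hS hT _ σ rfl LinearMap.id (fun _ _ => rfl) x
  · intro h χ hχ
    obtain ⟨n, ρ, hρ, rfl⟩ := hχ
    rw [classInner_character]
    rcases Nat.lt_or_ge (finrank ℂ (IntertwiningMap ρ σ)) 2 with hlt | hge
    · rcases Nat.lt_or_ge (finrank ℂ (IntertwiningMap ρ σ)) 1 with h0 | h1
      · left; rw [Nat.lt_one_iff.mp h0, Nat.cast_zero]
      · right; rw [show finrank ℂ (IntertwiningMap ρ σ) = 1 by omega, Nat.cast_one]
    exfalso
    have hker : ∀ φ : IntertwiningMap ρ σ, φ ≠ 0 → LinearMap.ker φ.toLinearMap = ⊥ := by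
      intro φ hφ
      rcases hρ.eq_bot_or_eq_top φ.ker with h' | h'
      · exact congrArg Subrepresentation.toSubmodule h'
      · exfalso
        apply hφ
        refine IntertwiningMap.ext (LinearMap.ext fun x => ?_)
        have : x ∈ φ.ker := h' ▸ (Submodule.mem_top : x ∈ (⊤ : Submodule ℂ _))
        exact this
    have hpos : 0 < finrank ℂ (IntertwiningMap ρ σ) := by omega
    obtain ⟨φ₁, hφ₁⟩ := Module.finrank_pos_iff_exists_ne_zero.mp hpos
    obtain ⟨ψ, hψ, hψφ⟩ := exists_retraction σ ρ φ₁.toLinearMap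
      (fun g x => φ₁.isIntertwining _ _ g x) (hker φ₁ hφ₁)
    obtain ⟨φ₂, hφ₂⟩ : ∃ φ₂ : IntertwiningMap ρ σ, ∀ c : ℂ, c • φ₁ ≠ φ₂ := by
      by_contra hc
      push Not at hc
      have := _root_.finrank_le_one φ₁ hc
      omega
    obtain ⟨c, hc⟩ :=
      (Representation.IsIrreducible.algebraMap_intertwiningMap_bijective_of_isAlgClosed (ρ := ρ)).2
        ((ψ ∘ₗ φ₂.toLinearMap).intertwiningMap_of_isIntertwiningMap ρ ρ fun g x => by
          simp [φ₂.isIntertwining, hψ])
    have hc' : ∀ x, ψ (φ₂ x) = c • x := fun x =>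
      (congrArg (fun F : IntertwiningMap ρ ρ => F x) hc).symm
    set φ₃ : IntertwiningMap ρ σ := φ₂ - c • φ₁ with hφ₃
    have h3 : φ₃ ≠ 0 := fun e => hφ₂ c (sub_eq_zero.mp e).symm
    have h30 : ∀ x, ψ (φ₃ x) = 0 := fun x => by
      simp [hφ₃, hc', show ψ (φ₁ x) = x from hψφ x]
    obtain ⟨x, hx⟩ : ∃ x, φ₃ x ≠ 0 := by
      by_contra hc
      push Not at hc
      exact h3 (IntertwiningMap.ext (LinearMap.ext hc))
    have := h (φ₁.toLinearMap ∘ₗ ψ) (φ₃.toLinearMap ∘ₗ ψ)
      (fun g y => by simp [hψ, φ₁.isIntertwining]) (fun g y => by simp [hψ, φ₃.isIntertwining])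
    have := LinearMap.congr_fun this (φ₁ x)
    simp [show ψ (φ₁ x) = x from hψφ x, h30] at this
    exact hx this.symm

theorem permRep_character {Ω : Type v} [Fintype Ω] [MulAction G Ω] :
    (Cfsg.permRep ℂ G Ω).character = fun g => (Nat.card (MulAction.fixedBy Ω g) : ℂ) := by
  classical
  funext g
  rw [Representation.character, LinearMap.trace_eq_matrix_trace ℂ (Pi.basisFun ℂ Ω), Matrix.trace]
  have h : ∀ x : Ω, LinearMap.toMatrix (Pi.basisFun ℂ Ω) (Pi.basisFun ℂ Ω)
      (Cfsg.permRep ℂ G Ω g) x x = if g⁻¹ • x = x then 1 else 0 := by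
    intro x
    rw [LinearMap.toMatrix_apply]
    simp only [Pi.basisFun_apply, Pi.basisFun_repr]
    show (Pi.single x (1 : ℂ) : Ω → ℂ) (g⁻¹ • x) = _
    rw [Pi.single_apply]
  simp only [Matrix.diag, h, Finset.sum_boole, Nat.card_eq_fintype_card]
  congr 1
  rw [← Fintype.card_subtype]
  refine Fintype.card_congr (Equiv.subtypeEquivRight fun x => ?_)
  rw [MulAction.mem_fixedBy, inv_smul_eq_iff, eq_comm]

theorem mem_invariants_iff (S : W →ₗ[ℂ] W) :
    S ∈ (σ.linHom σ).invariants ↔ Commutes σ S := by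
  constructor
  · intro hS g x
    have := LinearMap.congr_fun ((Representation.mem_invariants _ _).mp hS g) (σ g x)
    simp only [Representation.linHom_apply, LinearMap.comp_apply] at this
    rw [← Module.End.mul_apply (σ g⁻¹) (σ g), ← map_mul, inv_mul_cancel, map_one,
      Module.End.one_apply] at this
    exact this.symm
  · intro hS
    rw [Representation.mem_invariants]
    intro g
    ext x
    simp only [Representation.linHom_apply, LinearMap.comp_apply, hS g⁻¹ x]
    rw [← Module.End.mul_apply, ← map_mul, mul_inv_cancel, map_one, Module.End.one_apply]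

end Cfsg.Agent.Lib.Perm.CharMult
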