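import Cfsg.Agent.Lib.Perm.Basic
import Mathlib.GroupTheory.Subgroup.Centralizer
import Mathlib.GroupTheory.SpecificGroups.Cyclic
import Mathlib.GroupTheory.Sylow
import Mathlib.Data.Nat.Prime.Factorial
import Mathlib.Data.Finite.Perm
import Mathlib.GroupTheory.GroupAction.Transitive

/-!
Groups of prime degree: elements of order `p`, their centralizers and normalizers.
-/

set_option autoImplicit false

namespace Cfsg.Agent.Lib.Perm

open MulAction

variable {G : Type*} [Group G] {Ω : Type*} [MulAction G Ω] [FaithfulSMul G Ω] [Finite Ω]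
variable {p : ℕ} [hp : Fact p.Prime]

theorem zpowers_pretransitive_of_prime (hΩ : Nat.card Ω = p) {x : G} (hx : orderOf x = p) :
    IsPretransitive (Subgroup.zpowers x) Ω := by
  obtain ⟨b, hb⟩ : ∃ b : Ω, x • b ≠ b := by
    by_contra h
    push Not at h
    have : x = 1 := eq_of_smul_eq_smul (α := Ω) fun b => by rw [h b, one_smul]
    rw [this, orderOf_one] at hx
    exact hp.out.ne_one hx.symm
  have hfin : Finite (Subgroup.zpowers x) :=
    Nat.finite_of_card_ne_zero (by rw [Nat.card_zpowers, hx]; exact hp.out.ne_zero)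
  have hdvd : Nat.card (orbit (Subgroup.zpowers x) b) ∣ p := by
    refine Dvd.intro (Nat.card (stabilizer (Subgroup.zpowers x) b)) ?_
    rw [← Nat.card_prod, Nat.card_congr (orbitProdStabilizerEquivGroup _ b), Nat.card_zpowers, hx]
  have hne : Nat.card (orbit (Subgroup.zpowers x) b) ≠ 1 := by
    intro h1
    have := (Nat.card_eq_one_iff_unique.mp h1).1
    have h2 := this.elim ⟨x • b, ⟨⟨x, Subgroup.mem_zpowers x⟩, rfl⟩⟩ ⟨b, mem_orbit_self b⟩
    exact hb (congrArg Subtype.val h2)
  have hp' : (orbit (Subgroup.zpowers x) b).ncard = p :=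
    (Nat.card_coe_set_eq _).symm.trans (((Nat.dvd_prime hp.out).mp hdvd).resolve_left hne)
  have huniv : orbit (Subgroup.zpowers x) b = Set.univ :=
    Set.eq_of_subset_of_ncard_le (Set.subset_univ _) (by rw [Set.ncard_univ, hΩ, hp'])
      (Set.toFinite _)
  exact isPretransitive_iff_orbit_eq_univ b |>.mpr huniv

theorem centralizer_eq_zpowers_of_prime (hΩ : Nat.card Ω = p) {x : G} (hx : orderOf x = p) :
    Subgroup.centralizer {x} = Subgroup.zpowers x := by
  have := zpowers_pretransitive_of_prime hΩ hx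
  have hne : Nonempty Ω := (Nat.card_ne_zero.mp (hΩ ▸ hp.out.ne_zero)).1
  obtain ⟨a⟩ := hne
  refine le_antisymm (fun c hc => ?_) ?_
  · obtain ⟨⟨z, hz⟩, hzc⟩ := exists_smul_eq (Subgroup.zpowers x) a (c • a)
    have hcz : ∀ w ∈ Subgroup.zpowers x, w * c = c * w := by
      intro w hw
      obtain ⟨i, rfl⟩ := hw
      exact ((Subgroup.mem_centralizer_singleton_iff.mp hc : c * x = x * c) |> fun h =>
        (Commute.zpow_right (show Commute c x from h) i).symm)
    have : z = c := by
      refine eq_of_smul_eq_smul (α := Ω) fun b => ?_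
      obtain ⟨⟨w, hw⟩, rfl⟩ := exists_smul_eq (Subgroup.zpowers x) a b
      obtain ⟨i, rfl⟩ := hz
      obtain ⟨j, rfl⟩ := hw
      show x ^ i • x ^ j • a = c • x ^ j • a
      rw [← mul_smul, ← zpow_add, add_comm, zpow_add, mul_smul, ← mul_smul c, ← hcz _ ⟨j, rfl⟩,
        mul_smul]
      exact congrArg (x ^ j • ·) hzc
    exact this ▸ hz
  · rw [Subgroup.zpowers_le]
    exact Subgroup.mem_centralizer_singleton_iff.mpr rfl

theorem card_normalizer_dvd_of_prime (hΩ : Nat.card Ω = p) {x : G} (hx : orderOf x = p)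
    [Finite G] :
    Nat.card (Subgroup.normalizer (Subgroup.zpowers x : Set G)) ∣ p * (p - 1) := by
  let H := Subgroup.zpowers x
  let f := H.normalizerMonoidHom
  have hk : Nat.card f.ker = p := by
    rw [Subgroup.normalizerMonoidHom_ker]
    have hC : Subgroup.centralizer (H : Set G) = H := by
      rw [show H = Subgroup.closure {x} from Subgroup.zpowers_eq_closure x,
        Subgroup.centralizer_closure, centralizer_eq_zpowers_of_prime hΩ hx,
        Subgroup.zpowers_eq_closure]
    rw [hC, Nat.card_congr (Subgroup.subgroupOfEquivOfLe Subgroup.le_normalizer).toEquiv,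
      Nat.card_zpowers, hx]
  have hr : Nat.card f.range ∣ p - 1 := by
    have h := Subgroup.card_subgroup_dvd_card f.range
    rwa [IsCyclic.card_mulAut, Nat.card_zpowers, hx, Nat.totient_prime hp.out] at h
  rw [← Subgroup.card_mul_index f.ker, hk, Subgroup.index_ker]
  exact Nat.mul_dvd_mul_left p hr

/-- The Sylow `p`-subgroups have order `p` in prime degree. -/
theorem card_sylow_of_prime [Finite G] [IsPretransitive G Ω] (hΩ : Nat.card Ω = p)
    (P : Sylow p G) : Nat.card P = p := by
  have hne : Nonempty Ω := (Nat.card_ne_zero.mp (hΩ ▸ hp.out.ne_zero)).1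
  obtain ⟨a⟩ := hne
  have hdvd : p ∣ Nat.card G := hΩ ▸ index_stabilizer_of_transitive G a ▸ Subgroup.index_dvd_card _
  obtain ⟨x, hx⟩ := exists_prime_orderOf_dvd_card' p hdvd
  have h1 : p ∣ Nat.card P := by
    refine P.dvd_card_of_dvd_card hdvd
  have h2 : Nat.card G ∣ Nat.factorial p := by
    rw [← hΩ, ← Nat.card_perm (α := Ω)]
    exact Subgroup.card_dvd_of_injective (toPermHom G Ω) toPerm_injective
  have h3 : Nat.card P ∣ Nat.factorial p := (P : Subgroup G).card_subgroup_dvd_card.trans h2
  obtain ⟨k, hk⟩ := IsPGroup.iff_card.mp P.2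
  have hk1 : k ≤ 1 := by
    by_contra hk1
    have h4 : p ^ 2 ∣ Nat.factorial p := (pow_dvd_pow p (by omega)).trans (hk ▸ h3)
    have h5 : Nat.factorial p = p * Nat.factorial (p - 1) :=
      (Nat.mul_factorial_pred hp.out.ne_zero).symm
    rw [h5, pow_two, Nat.mul_dvd_mul_iff_left hp.out.pos, hp.out.dvd_factorial] at h4
    have := hp.out.one_lt
    omega
  interval_cases k
  · rw [hk, pow_zero, Nat.dvd_one] at h1
    exact absurd h1 hp.out.ne_one
  · rw [hk, pow_one]

end Cfsg.Agent.Lib.Perm
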