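import Cfsg.Agent.Lib.Perm.Basic
import Mathlib.GroupTheory.GroupAction.MultipleTransitivity
import Mathlib.GroupTheory.Sylow

/-!
Sharply 2-transitive finite groups: the identity together with the fixed-point-free elements
form an elementary abelian regular normal subgroup, the unique Sylow subgroup for its prime.
-/

set_option autoImplicit false

namespace Cfsg.Agent.Lib.Perm

open MulAction

/-- The data of a sharply 2-transitive action. -/
structure SharplyTwo (G : Type*) (Ω : Type*) [Group G] [MulAction G Ω] : Prop where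
  trans : ∀ a b c d : Ω, a ≠ b → c ≠ d → ∃ g : G, g • a = c ∧ g • b = d
  sharp : ∀ (g : G) (a b : Ω), a ≠ b → g • a = a → g • b = b → g = 1
  nontriv : 2 ≤ Nat.card Ω

theorem SharplyTwo.of_multiply {G Ω : Type*} [Group G] [MulAction G Ω]
    [IsMultiplyPretransitive G Ω 2] (hsharp : ∀ x : Fin 2 ↪ Ω, stabilizer G x = ⊥)
    (h2 : 2 ≤ Nat.card Ω) : SharplyTwo G Ω where
  trans := fun a b c d hab hcd =>
    is_two_pretransitive_iff.mp inferInstance hab hcd
  sharp := fun g a b hab ha hb => by
    let x : Fin 2 ↪ Ω := ⟨![a, b], by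
      intro i j h; fin_cases i <;> fin_cases j <;> first | rfl | exact absurd h hab | exact absurd h.symm hab⟩
    have hg : g ∈ stabilizer G x := by
      rw [mem_stabilizer_iff]
      ext i
      fin_cases i
      · exact ha
      · exact hb
    rwa [hsharp x, Subgroup.mem_bot] at hg
  nontriv := h2

variable {G Ω : Type*} [Group G] [MulAction G Ω] [Finite Ω]

omit [Finite Ω] in
theorem conj_fpf {x : G} (hx : ∀ a : Ω, x • a ≠ a) (g : G) (a : Ω) : (g * x * g⁻¹) • a ≠ a := by
  intro ha
  apply hx (g⁻¹ • a)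
  rw [eq_inv_smul_iff]
  rwa [mul_smul, mul_smul] at ha

namespace SharplyTwo

variable (h : SharplyTwo G Ω)
include h

omit [Finite Ω] in
theorem exists_ne (a : Ω) : ∃ b : Ω, b ≠ a := by
  by_contra hh
  push Not at hh
  have : Subsingleton Ω := ⟨fun x y => (hh x).trans (hh y).symm⟩
  have h1 := h.nontriv
  rw [Nat.card_of_subsingleton a] at h1
  omega

omit [Finite Ω] in
theorem pretransitive : IsPretransitive G Ω := by
  refine ⟨fun a b => ?_⟩
  obtain ⟨a', ha'⟩ := h.exists_ne a
  obtain ⟨b', hb'⟩ := h.exists_ne b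
  obtain ⟨g, hg, -⟩ := h.trans a a' b b' ha'.symm hb'.symm
  exact ⟨g, hg⟩

theorem finite : Finite G := by
  obtain ⟨a⟩ : Nonempty Ω := (Nat.card_pos_iff.mp (by have := h.nontriv; omega)).1
  obtain ⟨b, hb⟩ := h.exists_ne a
  refine Finite.of_injective (fun g : G => (g • a, g • b)) fun x y hxy => ?_
  simp only [Prod.mk.injEq] at hxy
  have := h.sharp (y⁻¹ * x) a b hb.symm (by rw [mul_smul, hxy.1, inv_smul_smul])
    (by rw [mul_smul, hxy.2, inv_smul_smul])
  exact (inv_mul_eq_one.mp this).symm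

theorem card_eq : Nat.card G = Nat.card Ω * (Nat.card Ω - 1) := by
  classical
  have := Fintype.ofFinite Ω
  obtain ⟨a⟩ : Nonempty Ω := (Nat.card_pos_iff.mp (by have := h.nontriv; omega)).1
  obtain ⟨b, hb⟩ := h.exists_ne a
  have : Nat.card G = Nat.card {q : Ω × Ω // q.1 ≠ q.2} := by
    refine Nat.card_congr (Equiv.ofBijective
      (fun g => ⟨(g • a, g • b), fun hh => hb ((MulAction.injective g hh).symm)⟩) ⟨?_, ?_⟩)
    · intro x y hxy
      simp only [Subtype.mk.injEq, Prod.mk.injEq] at hxy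
      have := h.sharp (y⁻¹ * x) a b hb.symm (by rw [mul_smul, hxy.1, inv_smul_smul])
        (by rw [mul_smul, hxy.2, inv_smul_smul])
      exact (inv_mul_eq_one.mp this).symm
    · rintro ⟨⟨c, d⟩, hcd⟩
      obtain ⟨g, hg⟩ := h.trans a b c d hb.symm hcd
      exact ⟨g, Subtype.ext (Prod.ext hg.1 hg.2)⟩
  rw [this, Nat.card_eq_fintype_card, Fintype.card_subtype, Nat.card_eq_fintype_card,
    show ({q : Ω × Ω | q.1 ≠ q.2} : Finset (Ω × Ω)) = (Finset.univ : Finset Ω).offDiag by
      ext; simp,
    Finset.offDiag_card, Finset.card_univ, Nat.mul_sub, mul_one]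

theorem card_fpf : Nat.card {g : G // ∀ x : Ω, g • x ≠ x} = Nat.card Ω - 1 := by
  classical
  have := h.finite
  have := Fintype.ofFinite G
  have := h.pretransitive
  obtain ⟨a⟩ : Nonempty Ω := (Nat.card_pos_iff.mp (by have := h.nontriv; omega)).1
  have hval : ∀ g : G, Nat.card (fixedBy Ω g) + (if (∀ x : Ω, g • x ≠ x) then 1 else 0) +
      (if g = 1 then 1 else 0) = (if g = 1 then Nat.card Ω else 0) + 1 := by
    intro g
    by_cases hg : g = 1
    · subst hg
      have hno : ¬ ∀ x : Ω, (1 : G) • x ≠ x := fun hh => hh a (one_smul _ _)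
      rw [card_fixedBy_one, if_neg hno, if_pos rfl, if_pos rfl]
    · rw [if_neg hg, if_neg hg]
      by_cases hf : ∀ x : Ω, g • x ≠ x
      · have : IsEmpty (fixedBy Ω g) := ⟨fun x => hf x x.2⟩
        rw [if_pos hf, Nat.card_of_isEmpty]
      · rw [if_neg hf]
        push Not at hf
        obtain ⟨x, hx⟩ := hf
        have : Nat.card (fixedBy Ω g) = 1 := by
          refine Nat.card_eq_one_iff_unique.mpr ⟨⟨fun u v => ?_⟩, ⟨⟨x, hx⟩⟩⟩
          by_contra huv
          exact hg (h.sharp g u v (fun e => huv (Subtype.ext e)) u.2 v.2)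
        rw [this]
  have hs := Finset.sum_congr rfl (fun g (_ : g ∈ (Finset.univ : Finset G)) => hval g)
  simp only [Finset.sum_add_distrib, Finset.sum_boole, Finset.sum_ite_eq', Finset.mem_univ,
    if_true, Finset.sum_const, Finset.card_univ, smul_eq_mul, mul_one, Nat.cast_id] at hs
  rw [sum_fixedBy, Nat.card_eq_one_iff_unique.mpr
    ⟨(pretransitive_iff_subsingleton_quotient G Ω).mp inferInstance, ⟨Quotient.mk'' a⟩⟩, one_mul,
    show ({x | x = 1} : Finset G).card = 1 from Finset.card_eq_one.mpr ⟨1, by ext; simp⟩,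
    ← Nat.card_eq_fintype_card] at hs
  have hD : Nat.card {g : G // ∀ x : Ω, g • x ≠ x} =
      ({g | ∀ x : Ω, g • x ≠ x} : Finset G).card := by
    rw [Nat.card_eq_fintype_card, Fintype.card_subtype]
  rw [hD]
  omega

omit [Finite Ω] in
theorem eq_one_of_commute {x y : G} (hx : ∀ a : Ω, x • a ≠ a) (hc : y * x = x * y) {a : Ω}
    (ha : y • a = a) : y = 1 :=
  h.sharp y a (x • a) (hx a).symm ha (by rw [← mul_smul, hc, mul_smul, ha])

theorem centralizer_eq {x : G} (hx : ∀ a : Ω, x • a ≠ a) :
    (Subgroup.centralizer {x} : Set G) = {g | g = 1 ∨ ∀ a : Ω, g • a ≠ a} := by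
  classical
  have := h.finite
  have := Fintype.ofFinite G
  obtain ⟨a⟩ : Nonempty Ω := (Nat.card_pos_iff.mp (by have := h.nontriv; omega)).1
  have hn := h.nontriv
  set C := Subgroup.centralizer {x}
  have hmem : ∀ y, y ∈ C → y * x = x * y := fun y hy => Subgroup.mem_centralizer_singleton_iff.mp hy
  have hsub : (C : Set G) ⊆ {g | g = 1 ∨ ∀ a : Ω, g • a ≠ a} := by
    intro y hy
    by_contra hh
    simp only [Set.mem_ofPred_eq, not_or, not_forall, not_not] at hh
    obtain ⟨hy1, b, hb⟩ := hh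
    exact hy1 (h.eq_one_of_commute hx (hmem y hy) hb)
  have hcl : C.index ≤ Nat.card Ω - 1 := by
    rw [← h.card_fpf, Subgroup.index_eq_card]
    refine Nat.card_le_card_of_injective
      (fun q : G ⧸ C => ⟨q.out * x * q.out⁻¹, conj_fpf hx _⟩) ?_
    intro q r hqr
    simp only [Subtype.mk.injEq] at hqr
    rw [← q.out_eq, ← r.out_eq]
    apply QuotientGroup.eq.mpr
    rw [Subgroup.mem_centralizer_singleton_iff]
    have h2 := congrArg (fun z => q.out⁻¹ * z * r.out) hqr
    simp only [mul_assoc, inv_mul_cancel, mul_one, inv_mul_cancel_left] at h2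
    simpa [mul_assoc] using h2.symm
  have hC : Nat.card Ω ≤ Nat.card C := by
    by_contra hlt
    have := Subgroup.card_mul_index C
    rw [h.card_eq] at this
    have h3 : Nat.card C * C.index < Nat.card Ω * (Nat.card Ω - 1) :=
      lt_of_le_of_lt (Nat.mul_le_mul_left _ hcl)
        (Nat.mul_lt_mul_of_pos_right (by omega) (by omega))
    omega
  refine Set.eq_of_subset_of_ncard_le hsub ?_ (Set.toFinite _)
  rw [← Nat.card_coe_set_eq]
  refine le_trans ?_ hC
  rw [show {g : G | g = 1 ∨ ∀ a : Ω, g • a ≠ a} = insert 1 {g : G | ∀ a : Ω, g • a ≠ a} from rfl]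
  refine le_trans (Set.ncard_insert_le _ _) ?_
  rw [← Nat.card_coe_set_eq]
  have := h.card_fpf
  change Nat.card {g : G // ∀ a : Ω, g • a ≠ a} + 1 ≤ _
  omega

/-- The regular normal subgroup. -/
def kernel (h : SharplyTwo G Ω) : Subgroup G where
  carrier := {g | g = 1 ∨ ∀ a : Ω, g • a ≠ a}
  one_mem' := Or.inl rfl
  mul_mem' := by
    intro x y hx hy
    rcases hy with rfl | hy
    · simpa using hx
    · have := h.centralizer_eq hy
      rw [← this]
      have hx' : x ∈ Subgroup.centralizer {y} := by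
        rw [← SetLike.mem_coe, this]
        exact hx
      exact mul_mem hx' (Subgroup.mem_centralizer_singleton_iff.mpr rfl)
  inv_mem' := by
    rintro x (rfl | hx)
    · simp
    · right
      intro a ha
      exact hx a (by conv_lhs => rw [← ha, smul_inv_smul]; )

theorem mem_kernel {g : G} : g ∈ h.kernel ↔ g = 1 ∨ ∀ a : Ω, g • a ≠ a := Iff.rfl

theorem kernel_normal : (h.kernel).Normal :=
  ⟨fun n hn g => by
    rcases hn with rfl | hn
    · simp [h.mem_kernel]
    · exact Or.inr (conj_fpf hn g)⟩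

theorem kernel_comm : IsMulCommutative h.kernel := by
  refine ⟨⟨fun x y => Subtype.ext ?_⟩⟩
  rcases y.2 with hy | hy
  · rw [Subgroup.coe_mul, Subgroup.coe_mul, hy, one_mul, mul_one]
  · have hx : (x : G) ∈ (Subgroup.centralizer {(y : G)} : Set G) := (h.centralizer_eq hy).symm ▸ x.2
    exact Subgroup.mem_centralizer_singleton_iff.mp hx

theorem card_kernel : Nat.card h.kernel = Nat.card Ω := by
  classical
  have := h.finite
  obtain ⟨a⟩ : Nonempty Ω := (Nat.card_pos_iff.mp (by have := h.nontriv; omega)).1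
  have := h.nontriv
  have hh := h.card_fpf
  change Nat.card {g : G // ∀ a : Ω, g • a ≠ a} = _ at hh
  rw [show Nat.card h.kernel = ({g : G | g = 1 ∨ ∀ a : Ω, g • a ≠ a}).ncard from Nat.card_coe_set_eq _,
    show {g : G | g = 1 ∨ ∀ a : Ω, g • a ≠ a} = insert 1 {g : G | ∀ a : Ω, g • a ≠ a} from rfl,
    Set.ncard_insert_of_notMem (fun (hm : (1 : G) ∈ {g : G | ∀ a : Ω, g • a ≠ a}) => hm a (one_smul _ _)),
    ← Nat.card_coe_set_eq]
  change Nat.card {g : G // ∀ a : Ω, g • a ≠ a} + 1 = _
  omega

theorem kernel_stabilizer (a : Ω) : stabilizer h.kernel a = ⊥ := by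
  refine (Subgroup.eq_bot_iff_forall _).mpr fun g hg => Subtype.ext ?_
  rcases g.2 with h1 | h1
  · exact h1
  · exact absurd hg (h1 a)

theorem kernel_pretransitive : IsPretransitive h.kernel Ω := by
  have := h.finite
  obtain ⟨a⟩ : Nonempty Ω := (Nat.card_pos_iff.mp (by have := h.nontriv; omega)).1
  have hinj : Function.Injective fun g : h.kernel => g • a := by
    intro x y hxy
    have hm : y⁻¹ * x ∈ stabilizer h.kernel a := by
      rw [mem_stabilizer_iff, mul_smul]
      exact inv_smul_eq_iff.mpr hxy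
    rw [h.kernel_stabilizer, Subgroup.mem_bot, inv_mul_eq_one] at hm
    exact hm.symm
  rw [isPretransitive_iff_orbit_eq_univ a]
  exact Set.range_eq_univ.mpr
    ((Nat.bijective_iff_injective_and_card _).mpr ⟨hinj, h.card_kernel⟩).2

theorem exists_prime :
    ∃ p j : ℕ, p.Prime ∧ 1 ≤ j ∧ Nat.card Ω = p ^ j ∧ ∀ x ∈ h.kernel, x ^ p = 1 := by
  classical
  have := h.finite
  have hn := h.nontriv
  obtain ⟨p, hp, hpn⟩ := Nat.exists_prime_and_dvd (show Nat.card h.kernel ≠ 1 by rw [h.card_kernel]; omega)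
  have : Fact p.Prime := ⟨hp⟩
  obtain ⟨⟨x, hxN⟩, hx⟩ := exists_prime_orderOf_dvd_card' p hpn
  rw [Subgroup.orderOf_mk] at hx
  have hxne : x ≠ 1 := by
    rintro rfl
    rw [orderOf_one] at hx
    exact hp.one_lt.ne hx
  have hxf := hxN.resolve_left hxne
  -- the fixed-point-free elements form a single class
  have hexp : ∀ y ∈ h.kernel, y ^ p = 1 := by
    intro y hy
    by_cases hy1 : y = 1
    · simp [hy1]
    have hyf := hy.resolve_left hy1
    let C := Subgroup.centralizer {x}
    have hsurj : Function.Surjective (fun q : G ⧸ C =>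
        (⟨q.out * x * q.out⁻¹, conj_fpf hxf _⟩ :
          {g : G // ∀ a : Ω, g • a ≠ a})) := by
      refine ((Nat.bijective_iff_injective_and_card _).mpr ⟨?_, ?_⟩).2
      · intro q r hqr
        simp only [Subtype.mk.injEq] at hqr
        rw [← q.out_eq, ← r.out_eq]
        apply QuotientGroup.eq.mpr
        rw [Subgroup.mem_centralizer_singleton_iff]
        have h2 := congrArg (fun z => q.out⁻¹ * z * r.out) hqr
        simp only [mul_assoc, inv_mul_cancel, mul_one, inv_mul_cancel_left] at h2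
        simpa [mul_assoc] using h2.symm
      · rw [h.card_fpf]
        have hC : Nat.card C = Nat.card Ω := by
          rw [← h.card_kernel]
          exact Nat.card_congr (Equiv.setCongr (h.centralizer_eq hxf))
        have hm := Subgroup.card_mul_index C
        rw [hC, h.card_eq] at hm
        exact (Subgroup.index_eq_card C).symm.trans (Nat.eq_of_mul_eq_mul_left (by omega) hm)
    obtain ⟨q, hq⟩ := hsurj ⟨y, hyf⟩
    rw [← show q.out * x * q.out⁻¹ = y from congrArg Subtype.val hq, conj_pow,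
      ← hx, pow_orderOf_eq_one, mul_one, mul_inv_cancel]
  have hP : IsPGroup p h.kernel := fun g => ⟨1, Subtype.ext (by simpa using hexp g g.2)⟩
  obtain ⟨j, hj⟩ := IsPGroup.iff_card.mp hP
  rw [h.card_kernel] at hj
  refine ⟨p, j, hp, ?_, hj, hexp⟩
  rcases j with _ | j
  · rw [pow_zero] at hj; omega
  · omega

theorem sylow_eq_kernel {p j : ℕ} [hp : Fact p.Prime] (hj : 1 ≤ j) (hc : Nat.card Ω = p ^ j)
    (P : Sylow p G) : (P : Subgroup G) = h.kernel := by
  have := h.finite
  have := h.kernel_normal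
  have hN : IsPGroup p h.kernel := IsPGroup.of_card (h.card_kernel.trans hc)
  have hidx : h.kernel.index = Nat.card Ω - 1 := by
    have hm := Subgroup.card_mul_index h.kernel
    rw [h.card_kernel, h.card_eq] at hm
    exact Nat.eq_of_mul_eq_mul_left (by have := h.nontriv; omega) hm
  have hndvd : ¬ p ∣ h.kernel.index := by
    rw [hidx, hc]
    intro hd
    have h1 : p ∣ p ^ j := dvd_pow_self p (by omega)
    have h2 := Nat.dvd_sub h1 hd
    rw [show p ^ j - (p ^ j - 1) = 1 from by have := Nat.one_le_pow j p hp.out.pos; omega] at h2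
    exact hp.out.ne_one (Nat.dvd_one.mp h2)
  let Q : Sylow p G := hN.toSylow hndvd
  let U := Sylow.unique_of_normal Q h.kernel_normal
  rw [Subsingleton.elim P Q]
  rfl

end SharplyTwo

end Cfsg.Agent.Lib.Perm
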