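import Cfsg.Agent.S0713
import Mathlib.GroupTheory.Perm.Cycle.Type
import Mathlib.Data.List.GetD
import Cfsg.Agent.Lib.Perm.DegreeElevenData
import Mathlib.Tactic.Group

/-!
Subgroups of the symmetric group of degree 11 containing a Frobenius group of order 55:
elements with at least four fixed points produce elements of order 7.
-/

set_option autoImplicit false
set_option maxHeartbeats 1000000

namespace Cfsg.Agent.Lib.Perm.DegreeEleven

open Equiv

variable {H : Subgroup (Perm (Fin 11))}

theorem seven_dvd_of_check (gs : List (Perm (Fin 11))) (hgs : ∀ g ∈ gs, g ∈ H)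
    (ws : List (List ℕ × ℕ)) (h : check ws (gs.map enc) = true) : 7 ∣ Nat.card H := by
  simp only [check, List.any_eq_true, Bool.and_eq_true, bne_iff_ne, beq_iff_eq,
    decide_eq_true_eq] at h
  obtain ⟨⟨w, i⟩, -, ⟨hi, h1⟩, h7⟩ := h
  let perm : List ℕ → Perm (Fin 11) := fun v => (v.map fun c => gs.getD c 1).prod
  -- indices out of range act as the zero map, so they cannot lie on a cycle
  by_cases hw : ∀ c ∈ w, c < gs.length
  swap
  · exfalso
    push Not at hw
    obtain ⟨c, hc, hclt⟩ := hw
    have hconst : ∀ (v : List ℕ), c ∈ v → ∀ a b, evalWord (gs.map enc) v a =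
        evalWord (gs.map enc) v b := by
      intro v
      induction v with
      | nil => intro h; exact absurd h List.not_mem_nil
      | cons d v ih =>
        intro hd a b
        simp only [evalWord, List.foldr_cons]
        rcases List.mem_cons.1 hd with rfl | hd'
        · rw [List.getD_eq_default _ _ (by simpa using hclt)]
          simp [app]
        · exact congrArg _ (ih hd' a b)
    have hk : ∀ z, evalWord (gs.map enc) w z = evalWord (gs.map enc) w i := fun z =>
      hconst w hc z i
    have h7' := h7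
    simp only [show List.range 7 = [0, 1, 2, 3, 4, 5, 6] from rfl, List.foldl_cons,
      List.foldl_nil] at h7'
    rw [hk] at h7'
    exact h1 h7'
  have hev : ∀ (v : List ℕ), (∀ c ∈ v, c < gs.length) → ∀ j : Fin 11,
      evalWord (gs.map enc) v j.1 = (perm v j).1 := by
    intro v
    induction v with
    | nil => intro _ j; rfl
    | cons c v ih =>
      intro hv j
      show app ((gs.map enc).getD c 0) (evalWord (gs.map enc) v j.1) = _
      have hc := hv c List.mem_cons_self
      rw [ih (fun d hd => hv d (List.mem_cons_of_mem _ hd)) j,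
        List.getD_eq_getElem _ _ (by simpa using hc), List.getElem_map, app_enc]
      simp only [perm, List.map_cons, List.prod_cons, Perm.mul_apply,
        List.getD_eq_getElem _ _ hc]
  have hP : perm w ∈ H := by
    refine H.list_prod_mem fun g hg => ?_
    obtain ⟨c, hc, rfl⟩ := List.mem_map.1 hg
    rw [List.getD_eq_getElem _ _ (hw c hc)]
    exact hgs _ (List.getElem_mem (hw c hc))
  have hit : ∀ n, (List.range n).foldl (fun z _ => evalWord (gs.map enc) w z) i =
      (((perm w) ^ n) ⟨i, hi⟩).1 := by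
    intro n
    induction n with
    | zero => simp
    | succ n ih =>
      rw [List.range_succ, List.foldl_append, List.foldl_cons, List.foldl_nil, ih, hev w hw,
        pow_succ', Perm.mul_apply]
  have h7' : (perm w ^ 7) ⟨i, hi⟩ = ⟨i, hi⟩ := Fin.ext (by rw [← hit]; exact h7)
  have hne : perm w ⟨i, hi⟩ ≠ ⟨i, hi⟩ := fun hh => h1
    ((hev w hw ⟨i, hi⟩).trans (congrArg Fin.val hh))
  have hper : Function.minimalPeriod (perm w) ⟨i, hi⟩ = 7 := by
    rw [Perm.coe_pow] at h7'
    rcases (Nat.dvd_prime (show Nat.Prime 7 by decide)).1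
      (Function.IsPeriodicPt.minimalPeriod_dvd h7') with hh | hh
    · exact absurd (Function.minimalPeriod_eq_one_iff_isFixedPt.1 hh) hne
    · exact hh
  refine dvd_trans ?_ (Subgroup.orderOf_dvd_natCard H hP)
  rw [← hper]
  refine Function.IsPeriodicPt.minimalPeriod_dvd ?_
  show (⇑(perm w))^[orderOf (perm w)] _ = _
  rw [← Perm.coe_pow, pow_orderOf_eq_one, Perm.one_apply]

theorem card_support_swap_mul {t : Perm (Fin 11)} {a : Fin 11} (ha : t a ≠ a)
    (ht : t * t = 1) : (swap a (t a) * t).support = t.support \ {a, t a} ∧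
      (swap a (t a) * t) * (swap a (t a) * t) = 1 := by
  have hinv : ∀ y, t (t y) = y := fun y => by rw [← Perm.mul_apply, ht, Perm.one_apply]
  have hval : ∀ y, (swap a (t a) * t) y = if y = a ∨ y = t a then y else t y := by
    intro y
    rw [Perm.mul_apply]
    by_cases h1 : y = a
    · simp [h1]
    by_cases h2 : y = t a
    · simp [h2, hinv]
    rw [if_neg (by tauto), swap_apply_of_ne_of_ne (fun h => h2 (by rw [← h, hinv]))
      (fun h => h1 (t.injective h))]
  refine ⟨?_, Equiv.ext fun y => ?_⟩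
  · ext y
    simp only [Perm.mem_support, Finset.mem_sdiff, Finset.mem_insert, Finset.mem_singleton, hval]
    split_ifs with h <;> tauto
  · rw [Perm.mul_apply, hval, hval, Perm.one_apply]
    by_cases h : y = a ∨ y = t a
    · simp [h]
    · rw [if_neg h]
      have h' : ¬ (t y = a ∨ t y = t a) := by
        rintro (h1 | h1)
        · exact h (Or.inr (by rw [← h1, hinv]))
        · exact h (Or.inl (t.injective h1))
      rw [if_neg h', hinv]

/-- A moved point with the others above it. -/
theorem exists_min_moved {t : Perm (Fin 11)} (h : t ≠ 1) :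
    ∃ c, t c ≠ c ∧ ∀ y, t y ≠ y → c ≤ y := by
  have hne : t.support.Nonempty := Finset.nonempty_iff_ne_empty.2 fun e =>
    h (Perm.support_eq_empty_iff.1 e)
  exact ⟨t.support.min' hne, Perm.mem_support.1 (t.support.min'_mem hne),
    fun y hy => t.support.min'_le y (Perm.mem_support.2 hy)⟩

theorem le_two_of_ne {c : Fin 11} (h0 : c ≠ 0) (h1 : c ≠ 1) : 2 ≤ c.1 := by
  have := Fin.val_ne_of_ne h0; have := Fin.val_ne_of_ne h1; simp at *; omega

theorem involution_case (hx : x0 ∈ H) (hy : y0 ∈ H) {t : Perm (Fin 11)} (ht : t ∈ H)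
    (ht2 : t * t = 1) (h01 : t 0 = 1) (hs : t.support.card = 4 ∨ t.support.card = 6) :
    7 ∣ Nat.card H := by
  have h10 : t 0 ≠ 0 := by rw [h01]; decide
  obtain ⟨hsup, ht12⟩ := card_support_swap_mul h10 ht2
  rw [h01] at hsup ht12
  set t₁ := swap 0 1 * t with ht1
  have hsub : ({0, 1} : Finset (Fin 11)) ⊆ t.support := by
    intro y hy'
    simp only [Finset.mem_insert, Finset.mem_singleton] at hy'
    rcases hy' with rfl | rfl <;> rw [Perm.mem_support]
    · exact h10
    · intro h; exact absurd (t.injective (h01.trans h.symm)) (by decide)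
  have hc1 : t₁.support.card = t.support.card - 2 := by
    rw [hsup, Finset.card_sdiff_of_subset hsub]; rfl
  have hne1 : t₁ ≠ 1 := fun h => by
    rw [h, Perm.support_one, Finset.card_empty] at hc1; omega
  have ht' : t = swap 0 1 * t₁ := by rw [ht1, ← mul_assoc, swap_mul_self, one_mul]
  obtain ⟨c, hc, hmin⟩ := exists_min_moved hne1
  set d := t₁ c with hd
  have hdd : t₁ d ≠ d := fun h => hc (t₁.injective h)
  have hc2 : 2 ≤ c.1 := by
    have hm := Perm.mem_support.2 hc
    rw [hsup] at hm
    simp only [Finset.mem_sdiff, Finset.mem_insert, Finset.mem_singleton, not_or] at hm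
    exact le_two_of_ne hm.2.1 hm.2.2
  have hcd : c < d := lt_of_le_of_ne (hmin d hdd) (Ne.symm hc)
  obtain ⟨hsup2, ht22⟩ := card_support_swap_mul hc ht12
  set t₂ := swap c d * t₁ with ht2'
  have hsub2 : ({c, d} : Finset (Fin 11)) ⊆ t₁.support := by
    intro y hy'
    simp only [Finset.mem_insert, Finset.mem_singleton] at hy'
    rcases hy' with rfl | rfl <;> rw [Perm.mem_support] <;> assumption
  have hc2' : t₂.support.card = t₁.support.card - 2 := by
    rw [hsup2, Finset.card_sdiff_of_subset hsub2, Finset.card_pair (Ne.symm hc)]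
  have ht1' : t₁ = swap c d * t₂ := by rw [ht2', ← mul_assoc, swap_mul_self, one_mul]
  rcases hs with hs | hs
  · have h2 : t₂ = 1 := Perm.support_eq_empty_iff.1 (Finset.card_eq_zero.1 (by omega))
    have h := casesA c hc2 d hcd
    rw [h2, mul_one] at ht1'
    rw [← ht1', ← ht'] at h
    exact seven_dvd_of_check [x0, y0, t] (by simp [hx, hy, ht]) pairsA h
  · obtain ⟨e, f, hef, he⟩ := Perm.card_support_eq_two.1 (show t₂.support.card = 2 by omega)
    have hsw : t₂ = swap (min e f) (max e f) := by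
      rcases le_total e f with h | h
      · rw [min_eq_left h, max_eq_right h]; exact he
      · rw [min_eq_right h, max_eq_left h, swap_comm]; exact he
    have hlt : min e f < max e f := min_lt_max.2 hef
    generalize min e f = e' at hsw hlt
    generalize max e f = f' at hsw hlt
    have hmem : ∀ y, y = e' ∨ y = f' → t₁ y ≠ y ∧ y ≠ c ∧ y ≠ d := by
      intro y hy'
      have hm : y ∈ t₂.support := by
        rw [hsw, Perm.support_swap hlt.ne]
        rcases hy' with rfl | rfl <;> simp
      rw [hsup2] at hm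
      simp only [Finset.mem_sdiff, Finset.mem_insert, Finset.mem_singleton, not_or,
        Perm.mem_support] at hm
      exact ⟨hm.1, hm.2.1, hm.2.2⟩
    obtain ⟨me, mec, med⟩ := hmem e' (Or.inl rfl)
    obtain ⟨mf, mfc, mfd⟩ := hmem f' (Or.inr rfl)
    have h := casesB c hc2 d hcd e' (lt_of_le_of_ne (hmin _ me) (Ne.symm mec)) med f' hlt mfd
    rw [hsw] at ht1'
    rw [← ht1', ← ht'] at h
    exact seven_dvd_of_check [x0, y0, t] (by simp [hx, hy, ht]) _ h

theorem swap_mul_swap_apply {a b c : Fin 11} (hab : a ≠ b) (hac : a ≠ c) (hbc : b ≠ c) :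
    (swap a b * swap b c) a = b ∧ (swap a b * swap b c) b = c ∧ (swap a b * swap b c) c = a := by
  refine ⟨?_, ?_, ?_⟩ <;>
    simp [swap_apply_def, hab, hac, hbc, hab.symm, hac.symm, hbc.symm]

theorem order_three_peel {t : Perm (Fin 11)} {a : Fin 11} (ha : t a ≠ a) (ht : t ^ 3 = 1) :
    let u := (swap a (t a) * swap (t a) (t (t a)))⁻¹ * t
    u.support = t.support \ {a, t a, t (t a)} ∧ u ^ 3 = 1 ∧
      ({a, t a, t (t a)} : Finset (Fin 11)).card = 3 ∧ {a, t a, t (t a)} ⊆ t.support := by
  have h3 : ∀ y, t (t (t y)) = y := fun y => by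
    have h := DFunLike.congr_fun ht y
    simpa [pow_succ] using h
  have hab : a ≠ t a := fun h => ha h.symm
  have hbc : t a ≠ t (t a) := fun h => hab (t.injective h)
  have hac : a ≠ t (t a) := fun h => by
    have := h3 a; rw [← h] at this; exact ha this
  obtain ⟨e1, e2, e3⟩ := swap_mul_swap_apply hab hac hbc
  intro u
  have hval : ∀ y, u y = if y = a ∨ y = t a ∨ y = t (t a) then y else t y := by
    intro y
    simp only [u]
    rw [Perm.mul_apply, Perm.inv_eq_iff_eq]
    by_cases h1 : y = a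
    · subst h1; rw [if_pos (by simp), e1]
    by_cases h2 : y = t a
    · subst h2; rw [if_pos (by simp), e2]
    by_cases h4 : y = t (t a)
    · subst h4; rw [if_pos (by simp), e3, h3]
    rw [if_neg (by tauto), Perm.mul_apply,
      swap_apply_of_ne_of_ne (fun h => h1 (t.injective h)) (fun h => h2 (t.injective h)),
      swap_apply_of_ne_of_ne (fun h => h4 (by rw [← h3 y, h])) (fun h => h1 (t.injective h))]
  refine ⟨?_, Equiv.ext fun y => ?_, ?_, ?_⟩
  · ext y
    simp only [Perm.mem_support, Finset.mem_sdiff, Finset.mem_insert, Finset.mem_singleton, hval]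
    split_ifs with h <;> tauto
  · simp only [pow_succ, pow_zero, one_mul, Perm.mul_apply, Perm.one_apply]
    by_cases h : y = a ∨ y = t a ∨ y = t (t a)
    · simp [hval, h]
    · have key : ∀ z, ¬ (z = a ∨ z = t a ∨ z = t (t a)) →
          ¬ (t z = a ∨ t z = t a ∨ t z = t (t a)) := by
        rintro z hz (h1 | h1 | h1)
        · exact hz (Or.inr (Or.inr (by rw [← h3 z, h1])))
        · exact hz (Or.inl (t.injective h1))
        · exact hz (Or.inr (Or.inl (t.injective h1)))
      rw [hval y, if_neg h, hval (t y), if_neg (key y h), hval (t (t y)),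
        if_neg (key _ (key y h)), h3]
  · exact Finset.card_eq_three.2 ⟨a, t a, t (t a), hab, hac, hbc, rfl⟩
  · intro y hy
    simp only [Finset.mem_insert, Finset.mem_singleton] at hy
    rw [Perm.mem_support]
    rcases hy with rfl | rfl | rfl
    · exact ha
    · exact hbc.symm
    · rw [h3]; exact hac

theorem three_case (hx : x0 ∈ H) (hy : y0 ∈ H) {t : Perm (Fin 11)} (ht : t ∈ H)
    (ht3 : t ^ 3 = 1) (h01 : t 0 = 1) (hs : t.support.card = 6) : 7 ∣ Nat.card H := by
  have h10 : t 0 ≠ 0 := by rw [h01]; decide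
  obtain ⟨hsup, ht13, hcard, hsub⟩ := order_three_peel h10 ht3
  rw [h01] at hsup ht13 hcard hsub
  set c := t 1 with hcdef
  set t₁ := (swap 0 1 * swap 1 c)⁻¹ * t with ht1
  have hc1 : t₁.support.card = 3 := by rw [hsup, Finset.card_sdiff_of_subset hsub, hcard, hs]
  have ht' : t = swap 0 1 * swap 1 c * t₁ := by rw [ht1, mul_inv_cancel_left]
  have hne1 : t₁ ≠ 1 := fun h => by rw [h, Perm.support_one, Finset.card_empty] at hc1; omega
  obtain ⟨d, hd, hmin⟩ := exists_min_moved hne1
  obtain ⟨hsup2, -, hcard2, hsub2⟩ := order_three_peel hd ht13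
  set e := t₁ d with hedef
  set f := t₁ e with hfdef
  set t₂ := (swap d e * swap e f)⁻¹ * t₁ with ht2
  have h2 : t₂ = 1 := by
    refine Perm.support_eq_empty_iff.1 (Finset.card_eq_zero.1 ?_)
    rw [hsup2, Finset.card_sdiff_of_subset hsub2, hcard2, hc1]
  have ht1' : t₁ = swap d e * swap e f := by
    rw [ht2, inv_mul_eq_one] at h2; exact h2.symm
  have hout : ∀ y ∈ ({d, e, f} : Finset (Fin 11)), t₁ y ≠ y ∧ y ≠ 0 ∧ y ≠ 1 ∧ y ≠ c := by
    intro y hy'
    have hm := hsub2 hy'
    have hm' := Perm.mem_support.1 hm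
    rw [hsup] at hm
    simp only [Finset.mem_sdiff, Finset.mem_insert, Finset.mem_singleton, not_or] at hm
    exact ⟨hm', hm.2.1, hm.2.2.1, hm.2.2.2⟩
  obtain ⟨-, kd0, kd1, kdc⟩ := hout d (by simp)
  obtain ⟨ke, -, -, kec⟩ := hout e (by simp)
  obtain ⟨kf, -, -, kfc⟩ := hout f (by simp)
  have hde : d ≠ e := Ne.symm hd
  have hef : e ≠ f := fun h => ke h.symm
  have hdf : d ≠ f := by
    intro hh
    rw [Finset.card_eq_three] at hcard2
    obtain ⟨p, q, r, hpq, hpr, hqr, hset⟩ := hcard2
    have hle : ({d, e, f} : Finset (Fin 11)).card ≤ 2 := by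
      rw [← hh, show ({d, e, d} : Finset (Fin 11)) = {d, e} by ext; simp; tauto]
      exact Finset.card_le_two
    rw [hset, Finset.card_eq_three.2 ⟨p, q, r, hpq, hpr, hqr, rfl⟩] at hle
    omega
  have hc01 : c ≠ 0 ∧ c ≠ 1 := by
    refine ⟨fun h => ?_, fun h => absurd (t.injective (h.trans h01.symm)) (by decide)⟩
    rw [h] at hcard; exact absurd hcard (by decide)
  have h := casesC c (le_two_of_ne hc01.1 hc01.2) d (le_two_of_ne kd0 kd1) kdc e
    (lt_of_le_of_ne (hmin e ke) hde) kec f (lt_of_le_of_ne (hmin f kf) hdf) kfc hef.symm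
  rw [← ht1', ← ht'] at h
  exact seven_dvd_of_check [x0, y0, t] (by simp [hx, hy, ht]) _ h

theorem pretransitive (hx : x0 ∈ H) : MulAction.IsPretransitive H (Fin 11) := by
  have h : ∀ a b : Fin 11, ∃ k : Fin 11, (x0 ^ k.1) a = b := by decide +kernel
  exact ⟨fun a b => by
    obtain ⟨k, hk⟩ := h a b
    exact ⟨⟨_, H.pow_mem hx k.1⟩, hk⟩⟩

theorem seven_dvd_of_cycle (hx : x0 ∈ H) {g : Perm (Fin 11)} (hg : g ∈ H) {q : ℕ} (hq : q.Prime)
    (hq8 : q ≤ 8) (hc : g.IsCycle) (hs : g.support.card = q) : 7 ∣ Nat.card H := by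
  have := pretransitive hx
  have hA : alternatingGroup (Fin 11) ≤ H :=
    Cfsg.Agent.S0713.result H (MulAction.IsPreprimitive.of_prime_card
      (by rw [Nat.card_eq_fintype_card, Fintype.card_fin]; decide +kernel)) hq
      (by simp) (by simp; omega) hc hs hg
  refine dvd_trans ?_ (Subgroup.card_dvd_of_le hA)
  rw [nat_card_alternatingGroup, Nat.card_eq_fintype_card, Fintype.card_fin]
  decide

theorem normalize (hx : x0 ∈ H) (hy : y0 ∈ H) (D a : Fin 11) (hD : D ≠ a) :
    ∃ g ∈ H, (g a = 0 ∧ g D = 1) ∨ (g a = 1 ∧ g D = 0) := by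
  have h : ∀ a D : Fin 11, D ≠ a → ∃ k : Fin 5, ∃ j : Fin 11,
      ((y0 ^ k.1 * x0 ^ j.1) a = 0 ∧ (y0 ^ k.1 * x0 ^ j.1) D = 1) ∨
      ((y0 ^ k.1 * x0 ^ j.1) a = 1 ∧ (y0 ^ k.1 * x0 ^ j.1) D = 0) := by decide +kernel
  obtain ⟨k, j, hkj⟩ := h a D hD
  exact ⟨_, H.mul_mem (H.pow_mem hy _) (H.pow_mem hx _), hkj⟩

/-- If some element other than `1` fixes four points, there is an element of order `7`. -/
theorem seven_dvd_of_fix (hx : x0 ∈ H) (hy : y0 ∈ H) {t : Perm (Fin 11)} (ht : t ∈ H)
    (ht1 : t ≠ 1) (hfix : t.support.card ≤ 7) : 7 ∣ Nat.card H := by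
  have ho : 1 < orderOf t := by
    rcases Nat.lt_or_ge 1 (orderOf t) with h | h
    · exact h
    · have := orderOf_pos t
      exact absurd (orderOf_eq_one_iff.1 (by omega : orderOf t = 1)) ht1
  obtain ⟨q, hq, hqd⟩ := Nat.exists_prime_and_dvd ho.ne'
  have hord : orderOf (t ^ (orderOf t / q)) = q := orderOf_pow_orderOf_div (by omega) hqd
  set s := t ^ (orderOf t / q) with hs
  have hsH : s ∈ H := H.pow_mem ht _
  have hle : s.support.card ≤ 7 :=
    (Finset.card_le_card (Perm.support_pow_le t _)).trans hfix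
  obtain ⟨n, hn⟩ := Perm.cycleType_prime_order (σ := s) (hord.symm ▸ hq)
  rw [hord] at hn
  have hsum := s.sum_cycleType
  rw [hn, Multiset.sum_replicate, smul_eq_mul] at hsum
  rcases Nat.eq_zero_or_pos n with rfl | hn0
  · refine seven_dvd_of_cycle hx hsH hq (by rw [← hsum] at hle; omega) ?_ (by omega)
    exact Perm.card_cycleType_eq_one.1 (by rw [hn]; rfl)
  have hq3 : q ≤ 3 := by
    by_contra h
    have : 2 * 4 ≤ (n + 1) * q := Nat.mul_le_mul (by omega) (by omega)
    omega
  have hs1 : s ≠ 1 := fun h => by rw [h, orderOf_one] at hord; exact hq.ne_one hord.symm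
  obtain ⟨a, ha⟩ : ∃ a, s a ≠ a := by
    by_contra h; push Not at h; exact hs1 (Equiv.ext h)
  obtain ⟨g, hg, hga⟩ := normalize hx hy (s a) a ha
  have hcard : ∀ u : Perm (Fin 11), (g * u * g⁻¹).support.card = u.support.card :=
    fun u => Perm.card_support_conj
  have hsq : s ^ q = 1 := hord ▸ pow_orderOf_eq_one s
  have happ : ∀ u : Perm (Fin 11), ∀ y, (g * u * g⁻¹) (g y) = g (u y) := fun u y => by simp
  obtain ⟨s', hs'H, hs'q, hs'card, hs'0⟩ : ∃ s' ∈ H, s' ^ q = 1 ∧
      s'.support.card = s.support.card ∧ s' 0 = 1 := by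
    rcases hga with ⟨h0, h1⟩ | ⟨h1, h0⟩
    · refine ⟨g * s * g⁻¹, H.mul_mem (H.mul_mem hg hsH) (H.inv_mem hg), by rw [conj_pow, hsq]; simp,
        hcard s, ?_⟩
      conv_lhs => rw [← h0]
      rw [happ, h1]
    · refine ⟨g * s⁻¹ * g⁻¹, H.mul_mem (H.mul_mem hg (H.inv_mem hsH)) (H.inv_mem hg),
        by rw [conj_pow, inv_pow, hsq]; simp, by rw [hcard, Perm.support_inv], ?_⟩
      conv_lhs => rw [← h0]
      rw [happ, show s⁻¹ (s a) = a from s.symm_apply_apply a, h1]
  have h2 : 2 ≤ q := hq.two_le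
  interval_cases q
  · refine involution_case hx hy hs'H (by rw [← pow_two, hs'q]) hs'0 ?_
    rw [hs'card]; omega
  · exact three_case hx hy hs'H hs'q hs'0 (by rw [hs'card]; omega)

/-- With all of `AGL(1,11)`, an even involution centralizing `-1` gives an element of order 7. -/
theorem seven_dvd_of_odd (hx : x0 ∈ H) (hz : z0 ∈ H) {s : Perm (Fin 11)} (hs : s ∈ H)
    (hs2 : s * s = 1) (hcomm : s * w0 = w0 * s) (hs8 : s.support.card = 8) :
    7 ∣ Nat.card H := by
  have hinv : ∀ y, s (s y) = y := fun y => by rw [← Perm.mul_apply, hs2, Perm.one_apply]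
  have hneg : ∀ i, s (10 * i) = 10 * s i := fun i => DFunLike.congr_fun hcomm i
  have h0 : s 0 = 0 := by
    have h : ∀ a : Fin 11, a = 10 * a → a = 0 := by decide +kernel
    exact h _ (hneg 0)
  have hz' : ∀ i, i ≠ 0 → s i ≠ 0 := fun i hi h => hi (by rw [← hinv i, h, h0])
  have hsum : ∀ i j, i ≠ j → i.1 + j.1 ≠ 11 → (s i).1 + (s j).1 ≠ 11 := by
    intro i j _ hij h
    have h' : ∀ a b : Fin 11, a.1 + b.1 = 11 → b = 10 * a := by decide +kernel
    have h'' : ∀ a : Fin 11, a ≠ 0 → a.1 + (10 * a).1 = 11 := by decide +kernel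
    have e := h' _ _ h
    rw [← hneg] at e
    have e' := s.injective e
    by_cases hi : i = 0
    · subst hi; rw [h0] at h; simp at h; omega
    · exact hij (e' ▸ h'' i hi)
  have hl : oddList (s 1) (s 2) (s 3) (s 4) (s 5) = List.ofFn fun i => (s i : ℕ) := by
    have h' : ∀ a : Fin 11, a ≠ 0 → 11 - a.1 = (10 * a).1 := by decide +kernel
    simp only [oddList, h' _ (hz' _ (by decide : (1 : Fin 11) ≠ 0)),
      h' _ (hz' _ (by decide : (2 : Fin 11) ≠ 0)), h' _ (hz' _ (by decide : (3 : Fin 11) ≠ 0)),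
      h' _ (hz' _ (by decide : (4 : Fin 11) ≠ 0)), h' _ (hz' _ (by decide : (5 : Fin 11) ≠ 0)),
      ← hneg]
    rw [List.ofFn_eq_map, show List.finRange 11 = [0, 1, 2, 3, 4, 5, 6, 7, 8, 9, 10] from rfl]
    simp [h0]
  have hget : ∀ i : Fin 11, (oddList (s 1) (s 2) (s 3) (s 4) (s 5)).getD i 0 = s i := fun i => by
    rw [hl, List.getD_eq_getElem?_getD, List.getElem?_ofFn, dif_pos i.2, Option.getD_some]
  have ne : ∀ i j : Fin 11, i ≠ j → s i ≠ s j := fun i j h e => h (s.injective e)
  have h := casesD (s 1) (hz' _ (by decide))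
    (s 2) (hz' _ (by decide)) (ne _ _ (by decide)) (hsum 2 1 (by decide) (by decide))
    (s 3) (hz' _ (by decide)) (ne _ _ (by decide)) (hsum 3 1 (by decide) (by decide))
      (ne _ _ (by decide)) (hsum 3 2 (by decide) (by decide))
    (s 4) (hz' _ (by decide)) (ne _ _ (by decide)) (hsum 4 1 (by decide) (by decide))
      (ne _ _ (by decide)) (hsum 4 2 (by decide) (by decide))
      (ne _ _ (by decide)) (hsum 4 3 (by decide) (by decide))
    (s 5) (hz' _ (by decide)) (ne _ _ (by decide)) (hsum 5 1 (by decide) (by decide))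
      (ne _ _ (by decide)) (hsum 5 2 (by decide) (by decide))
      (ne _ _ (by decide)) (hsum 5 3 (by decide) (by decide))
      (ne _ _ (by decide)) (hsum 5 4 (by decide) (by decide))
  have hall : (List.range 11).all (fun i => (oddList (s 1) (s 2) (s 3) (s 4) (s 5)).getD
      ((oddList (s 1) (s 2) (s 3) (s 4) (s 5)).getD i 0) 0 == i) = true := by
    rw [List.all_eq_true]
    intro i hi
    rw [List.mem_range] at hi
    have e1 := hget ⟨i, hi⟩
    simp only at e1
    rw [e1, hget, hinv, beq_iff_eq]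
  have hlen : ((List.range 11).filter fun i =>
      (oddList (s 1) (s 2) (s 3) (s 4) (s 5)).getD i 0 == i).length = 3 := by
    have e : ((List.range 11).filter fun i =>
        (oddList (s 1) (s 2) (s 3) (s 4) (s 5)).getD i 0 == i).toFinset =
        (Finset.univ.filter fun i => i ∉ s.support).map Fin.valEmbedding := by
      ext i
      simp only [List.mem_toFinset, List.mem_filter, List.mem_range, beq_iff_eq, Finset.mem_map,
        Finset.mem_filter, Finset.mem_univ, true_and, Perm.mem_support, not_not,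
        Fin.valEmbedding_apply]
      constructor
      · rintro ⟨hi, he⟩
        have e1 := hget ⟨i, hi⟩
        simp only at e1
        exact ⟨⟨i, hi⟩, Fin.ext (e1 ▸ he), rfl⟩
      · rintro ⟨j, hj, rfl⟩
        exact ⟨j.2, by rw [hget, hj]⟩
    rw [← List.toFinset_card_of_nodup (List.nodup_range.filter _), e, Finset.card_map,
      show (Finset.univ.filter fun i => i ∉ s.support) = s.supportᶜ by ext; simp,
      Finset.card_compl, hs8, Fintype.card_fin]
  have h := h hall hlen
  rw [hl] at h
  exact seven_dvd_of_check [x0, z0, s] (by simp [hx, hz, hs]) pairsD h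

end Cfsg.Agent.Lib.Perm.DegreeEleven
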