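import Cfsg.Agent.Lib.Perm.PrimeDegree
import Cfsg.Agent.Lib.SmallSimple.PrimeDegree
import Mathlib.GroupTheory.GroupAction.Primitive
import Mathlib.GroupTheory.Transfer
import Mathlib.GroupTheory.SpecificGroups.Alternating
import Mathlib.GroupTheory.SpecificGroups.ZGroup

/-!
Transitive groups of prime degree with given Sylow normalizer.
-/

set_option autoImplicit false

namespace Cfsg.Agent.Lib.Perm

open MulAction Equiv

variable {α : Type*} [Fintype α] [DecidableEq α] {p : ℕ} [hp : Fact p.Prime]

theorem dvd_card_normal_of_prime (hα : Fintype.card α = p) (H : Subgroup (Perm α))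
    [IsPretransitive H α] (N : Subgroup H) [N.Normal] (hN : N ≠ ⊥) :
    p ∣ Nat.card N ∧ IsPretransitive N α := by
  have hprim : IsPreprimitive H α :=
    IsPreprimitive.of_prime_card (by rw [Nat.card_eq_fintype_card, hα]; exact hp.out)
  have htr : IsPretransitive N α := by
    refine IsQuasiPreprimitive.isPretransitive_of_normal fun h => hN ?_
    rw [Subgroup.eq_bot_iff_forall]
    intro g hg
    refine Subtype.ext (Equiv.ext fun x => ?_)
    have hx : x ∈ fixedPoints N α := h ▸ Set.mem_univ x
    exact hx ⟨g, hg⟩
  refine ⟨?_, htr⟩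
  obtain ⟨a⟩ : Nonempty α := Fintype.card_pos_iff.1 (hα ▸ hp.out.pos)
  have := index_stabilizer_of_transitive (G := N) a
  rw [Nat.card_eq_fintype_card, hα] at this
  exact this ▸ Subgroup.index_dvd_card _

theorem dvd_card_of_transitive (hα : Fintype.card α = p) (H : Subgroup (Perm α))
    [IsPretransitive H α] : p ∣ Nat.card H := by
  obtain ⟨a⟩ : Nonempty α := Fintype.card_pos_iff.1 (hα ▸ hp.out.pos)
  have := index_stabilizer_of_transitive (G := H) a
  rw [Nat.card_eq_fintype_card, hα] at this
  exact this ▸ Subgroup.index_dvd_card _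

/-- Burnside: a transitive group of prime degree with self-normalizing Sylow subgroup is regular. -/
theorem card_eq_of_normalizer_eq (hα : Fintype.card α = p) (H : Subgroup (Perm α))
    [IsPretransitive H α] (P : Sylow p H)
    (hN : Nat.card ↥(Subgroup.normalizer ((P : Subgroup H) : Set H)) = p) : Nat.card H = p := by
  have hα' : Nat.card α = p := by rw [Nat.card_eq_fintype_card, hα]
  have hP : Nat.card P = p := card_sylow_of_prime (Ω := α) hα' P
  have heq : (P : Subgroup H) = Subgroup.normalizer ((P : Subgroup H) : Set H) :=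
    Subgroup.eq_of_le_of_card_ge Subgroup.le_normalizer (by rw [hN]; exact hP.ge)
  have : IsCyclic P := isCyclic_of_prime_card hP
  let : CommGroup P := IsCyclic.commGroup
  have hle : Subgroup.normalizer ((P : Subgroup H) : Set H) ≤
      Subgroup.centralizer ((P : Subgroup H) : Set H) := by
    rw [← heq]
    intro x hx y hy
    exact congrArg Subtype.val (mul_comm (⟨y, hy⟩ : P) ⟨x, hx⟩)
  have hc := MonoidHom.ker_transferSylow_isComplement' P hle
  set K := (MonoidHom.transferSylow P hle).ker
  have hK : K = ⊥ := by
    by_contra h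
    exact MonoidHom.not_dvd_card_ker_transferSylow P hle (dvd_card_normal_of_prime hα H K h).1
  have h := hc.card_mul
  rw [hK, Subgroup.card_bot, one_mul] at h
  rw [← h, hP]

/-- The Sylow normalizer of a transitive group of prime degree `p ≠ 2` inside the alternating
group has order dividing `p (p - 1) / 2`. -/
theorem two_mul_card_normalizer_dvd (hα : Fintype.card α = p) (hp2 : p ≠ 2) (H : Subgroup (Perm α))
    [IsPretransitive H α] (hH : H ≤ alternatingGroup α) (P : Sylow p H) :
    2 * Nat.card ↥(Subgroup.normalizer ((P : Subgroup H) : Set H)) ∣ p * (p - 1) := by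
  have : Nontrivial α := Fintype.one_lt_card_iff_nontrivial.1 (hα ▸ hp.out.one_lt)
  have hα' : Nat.card α = p := by rw [Nat.card_eq_fintype_card, hα]
  have hP : Nat.card P = p := card_sylow_of_prime (Ω := α) hα' P
  obtain ⟨S, hS⟩ := (P.isPGroup'.map H.subtype).exists_le_sylow
  have hPS : (P : Subgroup H).map H.subtype = (S : Subgroup (Perm α)) := by
    refine Subgroup.eq_of_le_of_card_ge hS ?_
    rw [Cfsg.Agent.Lib.SmallSimple.card_sylow_perm (Or.inl hα) S, Subgroup.card_map_of_injective
      Subtype.val_injective]
    exact hP.ge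
  have hle : (Subgroup.normalizer ((P : Subgroup H) : Set H)).map H.subtype ≤
      Subgroup.normalizer ((S : Subgroup (Perm α)) : Set (Perm α)) ⊓ alternatingGroup α := by
    refine le_inf ?_ ((Subgroup.map_subtype_le _).trans hH)
    rw [← hPS]
    exact Subgroup.le_normalizer_map H.subtype
  have h1 := Subgroup.card_dvd_of_le hle
  rw [Subgroup.card_map_of_injective Subtype.val_injective] at h1
  have h2 := Cfsg.Agent.Lib.SmallSimple.two_mul_card_normalizer_inf_alternating hp2 S
  rw [Cfsg.Agent.Lib.SmallSimple.card_normalizer_sylow_perm (Or.inl hα) S] at h2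
  rw [← h2]
  exact Nat.mul_dvd_mul_left 2 h1

/-- A group of permutations whose even part has squarefree order is solvable. -/
theorem solvable_of_even_part (G : Subgroup (Perm α))
    (h : Squarefree (Nat.card ↥(G ⊓ alternatingGroup α))) : Group.IsSolvable G := by
  let f : G →* ℤˣ := Perm.sign.comp G.subtype
  have hk : Nat.card f.ker = Nat.card ↥(G ⊓ alternatingGroup α) :=
    Nat.card_congr
      { toFun := fun x => ⟨x.1.1, x.1.2, Perm.mem_alternatingGroup.2 x.2⟩
        invFun := fun x => ⟨⟨x.1, x.2.1⟩, MonoidHom.mem_ker.2 (Perm.mem_alternatingGroup.1 x.2.2)⟩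
        left_inv := fun _ => rfl
        right_inv := fun _ => rfl }
  have : IsZGroup f.ker := IsZGroup.of_squarefree (hk ▸ h)
  exact Group.isSolvable_of_ker_le_range f.ker.subtype f (by rw [Subgroup.range_subtype])

end Cfsg.Agent.Lib.Perm
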