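import Mathlib.Algebra.Polynomial.Taylor
import Mathlib.RingTheory.Polynomial.Basic
import Mathlib.Algebra.CharP.Defs
import Mathlib.Data.ZMod.Basic
import Mathlib.LinearAlgebra.Lagrange
import Mathlib.LinearAlgebra.Dimension.Finrank
import Mathlib.LinearAlgebra.Dimension.Constructions
import Mathlib.FieldTheory.Finite.Basic
import Mathlib.Algebra.Field.ZMod

/-!
Translation-invariant spaces of functions on `ZMod p` in characteristic `p`.
-/

set_option autoImplicit false

namespace Cfsg.Agent.Lib.Perm.ZModPoly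

open Polynomial

variable {p : ℕ} [hp : Fact p.Prime] {K : Type*} [Field K] [CharP K p]

/-- Evaluation of polynomials on `ZMod p`. -/
noncomputable def ev (p : ℕ) (K : Type*) [Field K] [CharP K p] : K[X] →ₗ[K] (ZMod p → K) where
  toFun P j := P.eval (ZMod.cast j : K)
  map_add' P Q := funext fun j => eval_add
  map_smul' c P := funext fun j => by simp

omit hp in
theorem ev_apply (P : K[X]) (j : ZMod p) : ev p K P j = P.eval (ZMod.cast j : K) := rfl

/-- Functions of degree less than `r`. -/
noncomputable def V (p : ℕ) (K : Type*) [Field K] [CharP K p] (r : ℕ) : Submodule K (ZMod p → K) :=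
  (degreeLT K r).map (ev p K)

omit hp in
theorem mem_V {r : ℕ} {f : ZMod p → K} :
    f ∈ V p K r ↔ ∃ P : K[X], P.degree < r ∧ ev p K P = f := by
  simp only [V, Submodule.mem_map, mem_degreeLT]

theorem cast_injective : Function.Injective (ZMod.cast : ZMod p → K) :=
  (ZMod.castHom dvd_rfl K).injective

theorem ev_injective {P : K[X]} (hP : P.degree < p) (h : ev p K P = 0) : P = 0 := by
  rcases eq_or_ne P 0 with h0 | h0
  · exact h0
  · exact eq_zero_of_natDegree_lt_card_of_eval_eq_zero P (cast_injective (p := p))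
      (fun j => congrFun h j) (by rw [ZMod.card]; exact (natDegree_lt_iff_degree_lt h0).mpr hP)

theorem exists_ev (f : ZMod p → K) : ∃ P : K[X], P.degree < p ∧ ev p K P = f := by
  refine ⟨Lagrange.interpolate Finset.univ (ZMod.cast : ZMod p → K) f, ?_, funext fun j => ?_⟩
  · exact lt_of_lt_of_eq (Lagrange.degree_interpolate_lt f (cast_injective (p := p)).injOn)
      (by rw [Finset.card_univ, ZMod.card])
  · exact Lagrange.eval_interpolate_at_node f (cast_injective (p := p)).injOn (Finset.mem_univ j)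

theorem degree_lt_of_mem {r : ℕ} (hr : r ≤ p) {P : K[X]} (hP : P.degree < p)
    (h : ev p K P ∈ V p K r) : P.degree < r := by
  obtain ⟨Q, hQ, hQP⟩ := mem_V.mp h
  have hsub : P - Q = 0 := by
    refine ev_injective (p := p) ?_ (by rw [map_sub, hQP, sub_self])
    exact lt_of_le_of_lt (degree_sub_le _ _)
      (max_lt hP (hQ.trans_le (WithBot.coe_le_coe.mpr hr)))
  rwa [sub_eq_zero.mp hsub]

theorem finrank_V {r : ℕ} (hr : r ≤ p) : Module.finrank K (V p K r) = r := by
  let f : degreeLT K r →ₗ[K] (ZMod p → K) := (ev p K).domRestrict (degreeLT K r)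
  have hf : Function.Injective f := by
    intro P Q h
    apply Subtype.ext
    have hsub : (P : K[X]) - Q = 0 := by
      refine ev_injective (p := p) ?_ (by rw [map_sub]; exact sub_eq_zero.mpr h)
      exact lt_of_lt_of_le (mem_degreeLT.mp (sub_mem P.2 Q.2)) (WithBot.coe_le_coe.mpr hr)
    exact sub_eq_zero.mp hsub
  have h1 : V p K r = LinearMap.range f := by
    ext g
    constructor
    · rintro ⟨P, hP, rfl⟩
      exact ⟨⟨P, hP⟩, rfl⟩
    · rintro ⟨P, rfl⟩
      exact ⟨P, P.2, rfl⟩
  rw [h1, LinearMap.finrank_range_of_inj hf, (degreeLTEquiv K r).finrank_eq, Module.finrank_fin_fun]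

omit hp in
theorem shift_coeff {d : ℕ} {P : K[X]} (hP : P.natDegree ≤ d + 1) :
    (P.comp (X + 1)).coeff d = P.coeff d + (d + 1) * P.coeff (d + 1) := by
  conv_lhs => rw [P.as_sum_range' (d + 2) (by omega)]
  have h : (∑ i ∈ Finset.range (d + 2), monomial i (P.coeff i)).comp (X + 1) =
      ∑ i ∈ Finset.range (d + 2), C (P.coeff i) * (X + 1) ^ i := by
    rw [comp_eq_aeval, map_sum]
    refine Finset.sum_congr rfl fun i _ => ?_
    rw [aeval_monomial]
    rfl
  rw [h, finsetSum_coeff, Finset.sum_range_succ, Finset.sum_range_succ,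
    Finset.sum_eq_zero fun i hi => ?_]
  · simp [coeff_C_mul, coeff_X_add_one_pow, Nat.choose_succ_self_right, mul_comm]
  · rw [coeff_C_mul, coeff_X_add_one_pow, Nat.choose_eq_zero_of_lt (Finset.mem_range.mp hi)]
    simp

theorem ev_comp_succ (P : K[X]) : ev p K (P.comp (X + 1)) = fun j => ev p K P (j + 1) := by
  funext j
  rw [ev_apply, ev_apply, eval_comp, eval_add, eval_X, eval_one, ZMod.cast_add dvd_rfl,
    ZMod.cast_one dvd_rfl]

theorem shift_mem {W : Submodule K (ZMod p → K)} (hW : ∀ f ∈ W, (fun j => f (j - 1)) ∈ W)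
    {f : ZMod p → K} (hf : f ∈ W) : (fun j => f (j + 1)) ∈ W := by
  have key : ∀ k : ℕ, (fun j => f (j - k)) ∈ W := by
    intro k
    induction k with
    | zero => simpa using hf
    | succ k ih =>
      have := hW _ ih
      simp only [Nat.cast_succ]
      convert this using 1
      exact funext fun j => congrArg f (by ring)
  have h2 := key (p - 1)
  rw [Nat.cast_sub hp.out.one_le, ZMod.natCast_self, Nat.cast_one, zero_sub] at h2
  simpa only [sub_neg_eq_add] using h2

theorem degreeLT_le {W : Submodule K (ZMod p → K)} (hW : ∀ f ∈ W, (fun j => f (j - 1)) ∈ W)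
    (d : ℕ) : d < p → ∀ P : K[X], P.natDegree = d → P ≠ 0 → ev p K P ∈ W → V p K (d + 1) ≤ W := by
  induction d with
  | zero =>
    intro _ P hd h0 hP f hf
    obtain ⟨Q, hQ, rfl⟩ := mem_V.mp hf
    have hQ0 : Q.degree ≤ 0 := Nat.WithBot.lt_one_iff_le_zero.mp (by simpa using hQ)
    have hp0 : P = C (P.coeff 0) := eq_C_of_natDegree_eq_zero hd
    have hc : P.coeff 0 ≠ 0 := fun h => h0 (by rw [hp0, h, C_0])
    have : Q = (Q.coeff 0 / P.coeff 0) • P := by
      rw [eq_C_of_degree_le_zero hQ0, hp0]
      simp [smul_C, hc]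
    rw [this, map_smul]
    exact W.smul_mem _ hP
  | succ d ih =>
    intro hdp P hd h0 hP f hf
    have hlc : P.coeff (d + 1) ≠ 0 := hd ▸ leadingCoeff_ne_zero.mpr h0
    let D := P.comp (X + 1) - P
    have hD : ev p K D ∈ W := by
      rw [map_sub, ev_comp_succ]
      exact W.sub_mem (shift_mem hW hP) hP
    have hdeg : (P.comp (X + 1)).natDegree ≤ d + 1 := by
      rw [natDegree_comp, show (X : K[X]) + 1 = X + C 1 by rw [C_1], natDegree_X_add_C, hd, mul_one]
    have hDd : D.coeff d ≠ 0 := by
      rw [coeff_sub, shift_coeff (by omega), add_sub_cancel_left]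
      refine mul_ne_zero ?_ hlc
      rw [← Nat.cast_succ, Ne, CharP.cast_eq_zero_iff K p]
      exact fun h => absurd (Nat.le_of_dvd (Nat.succ_pos d) h) (by omega)
    have hDle : D.natDegree ≤ d := by
      rw [natDegree_le_iff_coeff_eq_zero]
      intro m hm
      rcases Nat.eq_or_lt_of_le (Nat.succ_le_of_lt hm) with h | h
      · subst h
        have h1 : (P.comp (X + 1)).coeff (d + 1) = P.coeff (d + 1) := by
          have h2 := coeff_comp_degree_mul_degree (p := P)
            (show ((X : K[X]) + 1).natDegree ≠ 0 by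
              rw [show (X : K[X]) + 1 = X + C 1 by rw [C_1], natDegree_X_add_C]; exact one_ne_zero)
          rw [show (X : K[X]) + 1 = X + C 1 by rw [C_1], natDegree_X_add_C, leadingCoeff_X_add_C,
            one_pow, mul_one, mul_one, hd] at h2
          rw [show (X : K[X]) + 1 = X + C 1 by rw [C_1], h2, leadingCoeff, hd]
        rw [coeff_sub, h1, sub_self]
      · rw [coeff_sub, coeff_eq_zero_of_natDegree_lt (by omega),
          coeff_eq_zero_of_natDegree_lt (by omega), sub_self]
    have hsub := ih (by omega) D (le_antisymm hDle (le_natDegree_of_ne_zero hDd))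
      (fun h => hDd (by rw [h, coeff_zero])) hD
    obtain ⟨Q, hQ, rfl⟩ := mem_V.mp hf
    have hR : (Q - (Q.coeff (d + 1) / P.coeff (d + 1)) • P).degree < ((d + 1 : ℕ) : WithBot ℕ) := by
      rw [degree_lt_iff_coeff_zero]
      intro m hm
      rcases Nat.eq_or_lt_of_le hm with h | h
      · subst h
        rw [coeff_sub, coeff_smul, smul_eq_mul, div_mul_cancel₀ _ hlc, sub_self]
      · have hQm : Q.coeff m = 0 := (degree_lt_iff_coeff_zero _ _).mp hQ m (by omega)
        rw [coeff_sub, coeff_smul, hQm, coeff_eq_zero_of_natDegree_lt (p := P) (n := m) (by omega), smul_zero,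
          sub_zero]
    have hm := hsub (mem_V.mpr ⟨_, hR, rfl⟩)
    rw [map_sub, map_smul] at hm
    simpa using W.add_mem hm (W.smul_mem (Q.coeff (d + 1) / P.coeff (d + 1)) hP)

theorem eq_V {W : Submodule K (ZMod p → K)} (hW : ∀ f ∈ W, (fun j => f (j - 1)) ∈ W) :
    ∃ r ≤ p, W = V p K r := by
  classical
  let S : Finset ℕ := (Finset.range p).filter fun d =>
    ∃ P : K[X], P.natDegree = d ∧ P ≠ 0 ∧ ev p K P ∈ W
  let r := S.sup (· + 1)
  have hrp : r ≤ p := Finset.sup_le fun d hd => by
    have := Finset.mem_range.mp (Finset.mem_filter.mp hd).1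
    omega
  refine ⟨r, hrp, le_antisymm (fun f hf => ?_) ?_⟩
  · obtain ⟨P, hP, rfl⟩ := exists_ev f
    refine mem_V.mpr ⟨P, ?_, rfl⟩
    rcases eq_or_ne P 0 with h | h
    · subst h; rw [degree_zero]; exact WithBot.bot_lt_coe _
    · have hd : P.natDegree < p := (natDegree_lt_iff_degree_lt h).mpr hP
      have hm : P.natDegree ∈ S := Finset.mem_filter.mpr ⟨Finset.mem_range.mpr hd, P, rfl, h, hf⟩
      rw [← natDegree_lt_iff_degree_lt h]
      exact Nat.lt_of_succ_le (Finset.le_sup (f := (· + 1)) hm)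
  · rcases S.eq_empty_or_nonempty with h | h
    · intro f hf
      obtain ⟨P, hP, rfl⟩ := mem_V.mp hf
      have hP0 : P = 0 := Polynomial.ext fun m => by
        rw [coeff_zero]
        exact (degree_lt_iff_coeff_zero _ _).mp hP m (by simp [r, h])
      simp [hP0]
    · obtain ⟨d, hd, hr⟩ := S.exists_mem_eq_sup h (· + 1)
      obtain ⟨hdp, P, hP1, hP2, hP3⟩ := Finset.mem_filter.mp hd
      rw [show r = d + 1 from hr]
      exact degreeLT_le hW d (Finset.mem_range.mp hdp) P hP1 hP2 hP3

theorem sum_ev {P : K[X]} (hP : P.degree < p) : ∑ j, ev p K P j = -P.coeff (p - 1) := by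
  have hnat : P.natDegree < p := by
    rcases eq_or_ne P 0 with h | h
    · subst h; simpa using hp.out.pos
    · exact (natDegree_lt_iff_degree_lt h).mpr hP
  have hs : ∀ i < p, ∑ j : ZMod p, (ZMod.cast j : K) ^ i = if i = p - 1 then -1 else 0 := by
    intro i hi
    have hcast : ∑ j : ZMod p, (ZMod.cast j : K) ^ i =
        ZMod.castHom dvd_rfl K (∑ j : ZMod p, j ^ i) := by
      rw [map_sum]
      exact Finset.sum_congr rfl fun j _ => by rw [map_pow]; rfl
    rw [hcast]
    split_ifs with h
    · subst h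
      have h2 := hp.out.two_le
      rw [Finset.sum_eq_sum_sdiff_singleton_add (Finset.mem_univ 0), zero_pow (by omega), add_zero,
        Finset.sum_congr rfl (g := fun _ => (1 : ZMod p)) fun j hj => ZMod.pow_card_sub_one_eq_one
          (by simpa using hj), Finset.sum_const, Finset.card_sdiff, Finset.card_univ, ZMod.card]
      simp [Nat.cast_sub hp.out.one_le]
    · rw [FiniteField.sum_pow_lt_card_sub_one (ZMod p) i (by rw [ZMod.card]; omega), map_zero]
  simp only [ev_apply, eval_eq_sum_range' hnat]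
  rw [Finset.sum_comm]
  simp only [← Finset.mul_sum]
  rw [Finset.sum_eq_single (p - 1)]
  · rw [hs _ (by have := hp.out.pos; omega), if_pos rfl, mul_neg, mul_one]
  · intro i hi hne
    rw [hs i (Finset.mem_range.mp hi), if_neg hne, mul_zero]
  · intro h
    exact absurd (Finset.mem_range.mpr (by have := hp.out.pos; omega)) h

/-- A map preserving a small space of low-degree functions is affine. -/
theorem affine_of_small {r : ℕ} (h2 : 2 ≤ r) (hr : 2 * r ≤ p + 1) (π : ZMod p → ZMod p)
    (hπ : ∀ f ∈ V p K r, f ∘ π ∈ V p K r) : ∃ a b : ZMod p, ∀ j, π j = a * j + b := by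
  have hrp : r ≤ p := by have := hp.out.two_le; omega
  obtain ⟨D, hD, hDev⟩ := exists_ev (fun j => (ZMod.cast (π j) : K))
  have hpow : ∀ k, k < r → k * D.natDegree < p → k * D.natDegree < r ∨ D = 0 := by
    intro k hk hkd
    by_cases hD0 : D = 0
    · exact Or.inr hD0
    left
    have hX : ev p K (X ^ k) ∈ V p K r :=
      mem_V.mpr ⟨_, by rw [degree_X_pow]; exact WithBot.coe_lt_coe.mpr hk, rfl⟩
    have hcomp : ev p K (X ^ k) ∘ π = ev p K (D ^ k) := funext fun j => by
      simp only [Function.comp_apply, ev_apply, eval_pow, eval_X]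
      rw [← congrFun hDev j, ev_apply]
    have hne : D ^ k ≠ 0 := pow_ne_zero _ hD0
    have h3 := degree_lt_of_mem hrp (P := D ^ k)
      (by rw [← natDegree_lt_iff_degree_lt hne, natDegree_pow]; exact hkd) (hcomp ▸ hπ _ hX)
    rwa [← natDegree_lt_iff_degree_lt hne, natDegree_pow] at h3
  have hd1 : D.natDegree ≤ 1 := by
    by_contra hd
    push Not at hd
    have hD0 : D ≠ 0 := fun h => by rw [h] at hd; simp at hd
    have hdp : D.natDegree < p := (natDegree_lt_iff_degree_lt hD0).mpr hD
    have h1 := (hpow 1 (by omega) (by omega)).resolve_right hD0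
    rw [one_mul] at h1
    generalize D.natDegree = d at hd h1 hpow hdp
    have hk1 : (r - 1) / d ≤ (r - 1) / 2 := Nat.div_le_div_left hd (by omega)
    have hk3 := Nat.div_add_mod (r - 1) d
    have hk4 := Nat.mod_lt (r - 1) (show 0 < d by omega)
    have e : ((r - 1) / d + 1) * d = d * ((r - 1) / d) + d := by ring
    have h3 := (hpow ((r - 1) / d + 1) (by omega) (by omega)).resolve_right hD0
    omega
  have hform : ∀ j, (ZMod.cast (π j) : K) = D.coeff 1 * ZMod.cast j + D.coeff 0 := fun j => by
    rw [← congrFun hDev j, ev_apply]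
    conv_lhs => rw [eq_X_add_C_of_natDegree_le_one hd1]
    simp
  refine ⟨π 1 - π 0, π 0, fun j => cast_injective (p := p) (K := K) ?_⟩
  have h0 := hform 0
  have h1 := hform 1
  rw [ZMod.cast_zero, mul_zero, zero_add] at h0
  rw [ZMod.cast_one dvd_rfl, mul_one] at h1
  rw [ZMod.cast_add dvd_rfl, ZMod.cast_mul dvd_rfl, ZMod.cast_sub dvd_rfl, hform j, h0, h1]
  ring

/-- A map preserving an invariant space strictly between constants and sum zero is affine. -/
theorem affine_of_preserved {W : Submodule K (ZMod p → K)}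
    (hW : ∀ f ∈ W, (fun j => f (j - 1)) ∈ W) (h1 : (fun _ => (1 : K)) ∈ W)
    (hnC : ∃ f ∈ W, ¬ ∃ c, ∀ j, f j = c) (hS : ∀ f ∈ W, ∑ j, f j = 0)
    (hnS : ∃ f : ZMod p → K, ∑ j, f j = 0 ∧ f ∉ W) (π : ZMod p → ZMod p)
    (hbij : Function.Bijective π) (hπ : ∀ f ∈ W, f ∘ π ∈ W) :
    ∃ a b : ZMod p, ∀ j, π j = a * j + b := by
  obtain ⟨r, hrp, rfl⟩ := eq_V hW
  have h2p := hp.out.two_le
  have hr2 : 2 ≤ r := by
    obtain ⟨f, hf, hf'⟩ := hnC
    obtain ⟨P, hP, rfl⟩ := mem_V.mp hf
    by_contra hlt
    apply hf'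
    refine ⟨P.coeff 0, fun j => ?_⟩
    have : P.degree < ((1 : ℕ) : WithBot ℕ) := hP.trans_le (WithBot.coe_le_coe.mpr (show r ≤ 1 by omega))
    rw [ev_apply, eq_C_of_degree_le_zero (p := P) (Nat.WithBot.lt_one_iff_le_zero.mp (by simpa using this))]
    simp
  have hXdeg : ∀ k, k < p → (X ^ k : K[X]).degree < (p : WithBot ℕ) := fun k hk => by
    rw [degree_X_pow]; exact WithBot.coe_lt_coe.mpr hk
  have hrlt : r ≠ p := by
    intro h
    subst h
    have := hS _ (mem_V.mpr ⟨X ^ (r - 1), hXdeg _ (by omega), rfl⟩)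
    rw [sum_ev (hXdeg _ (by omega)), coeff_X_pow, if_pos rfl] at this
    simp at this
  have hrne : r ≠ p - 1 := by
    intro h
    obtain ⟨f, hf, hf'⟩ := hnS
    obtain ⟨P, hP, rfl⟩ := exists_ev f
    rw [sum_ev hP, neg_eq_zero] at hf
    refine hf' (mem_V.mpr ⟨P, ?_, rfl⟩)
    rw [degree_lt_iff_coeff_zero]
    intro m hm
    rcases Nat.eq_or_lt_of_le (show p - 1 ≤ m by omega) with h' | h'
    · rw [← h']; exact hf
    · exact (degree_lt_iff_coeff_zero _ _).mp hP m (by omega)
  by_cases hsmall : 2 * r ≤ p + 1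
  · exact affine_of_small hr2 hsmall π hπ
  let O : Submodule K (ZMod p → K) :=
    { carrier := {u | ∀ w ∈ V p K r, ∑ j, u j * w j = 0}
      add_mem' := fun {a b} ha hb w hw => by
        simp only [Pi.add_apply, add_mul, Finset.sum_add_distrib, ha w hw, hb w hw, add_zero]
      zero_mem' := fun w _ => by simp
      smul_mem' := fun c a ha w hw => by
        simp only [Pi.smul_apply, smul_eq_mul, mul_assoc, ← Finset.mul_sum, ha w hw, mul_zero] }
  have hOs : ∀ u ∈ O, (fun j => u (j - 1)) ∈ O := by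
    intro u hu w hw
    rw [← hu _ (shift_mem hW hw)]
    exact Fintype.sum_equiv (Equiv.subRight (1 : ZMod p)) _ _ fun j => by
      simp [Equiv.subRight_apply]
  obtain ⟨s, hsp, hOV⟩ := eq_V hOs
  have hOπ : ∀ u ∈ V p K s, u ∘ π ∈ V p K s := by
    rw [← hOV]
    intro u hu w hw
    let e := Equiv.ofBijective π hbij
    have hw' : (fun j => w (e.symm j)) ∈ V p K r := by
      have hinj : Function.Injective ((LinearMap.funLeft K K π).restrict
          (show ∀ f ∈ V p K r, LinearMap.funLeft K K π f ∈ V p K r from hπ)) := by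
        intro f g h
        apply Subtype.ext
        funext j
        obtain ⟨i, rfl⟩ := hbij.2 j
        exact congrFun (congrArg Subtype.val h) i
      obtain ⟨⟨f, hf⟩, hfe⟩ := LinearMap.injective_iff_surjective.mp hinj ⟨w, hw⟩
      have : (fun j => w (e.symm j)) = f := funext fun j => by
        have := congrFun (congrArg Subtype.val hfe) (e.symm j)
        simp only [LinearMap.restrict_apply, LinearMap.funLeft_apply] at this
        rw [← this, show π (e.symm j) = j from e.apply_symm_apply j]
      exact this ▸ hf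
    rw [← hu _ hw']
    exact Fintype.sum_equiv e _ _ fun j => by
      show u (π j) * w j = u (e j) * w (e.symm (e j))
      rw [Equiv.symm_apply_apply]; rfl
  have hsum : ∀ P Q : K[X], P.natDegree + Q.natDegree < p →
      ∑ j, ev p K P j * ev p K Q j = -(P * Q).coeff (p - 1) := by
    intro P Q h
    rw [← sum_ev (lt_of_le_of_lt degree_le_natDegree
      (WithBot.coe_lt_coe.mpr (natDegree_mul_le.trans_lt h)))]
    simp [ev_apply]
  have hXO : ev p K X ∈ O := by
    intro w hw
    obtain ⟨Q, hQ, rfl⟩ := mem_V.mp hw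
    rcases eq_or_ne Q 0 with rfl | hQ0
    · simp
    · have hq : Q.natDegree < r := (natDegree_lt_iff_degree_lt hQ0).mpr hQ
      rw [hsum _ _ (by rw [natDegree_X]; omega),
        coeff_eq_zero_of_natDegree_lt (natDegree_mul_le.trans_lt (by rw [natDegree_X]; omega)),
        neg_zero]
  have hs2 : 2 ≤ s := by
    rw [hOV] at hXO
    have := degree_lt_of_mem hsp (by rw [degree_X]; exact WithBot.coe_lt_coe.mpr (show 1 < p by omega)) hXO
    rw [degree_X] at this
    exact WithBot.coe_lt_coe.mp this
  have hs : s + r ≤ p := by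
    by_contra hlt
    have hm : ev p K (X ^ (p - r)) ∈ O := by
      rw [hOV]
      exact mem_V.mpr ⟨_, by rw [degree_X_pow]; exact WithBot.coe_lt_coe.mpr (show p - r < s by omega), rfl⟩
    have h3 := hm _ (mem_V.mpr ⟨X ^ (r - 1),
      by rw [degree_X_pow]; exact WithBot.coe_lt_coe.mpr (show r - 1 < r by omega), rfl⟩)
    rw [hsum _ _ (by rw [natDegree_X_pow, natDegree_X_pow]; omega), ← pow_add, coeff_X_pow,
      if_pos (by omega)] at h3
    simp at h3
  exact affine_of_small hs2 (by omega) π hOπ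

end Cfsg.Agent.Lib.Perm.ZModPoly
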