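import Cfsg.Prelude.Def_Perm
import Cfsg.Agent.Lib.Perm.Basic
import Mathlib.GroupTheory.PGroup
import Mathlib.GroupTheory.FiniteAbelian.Basic
import Mathlib.GroupTheory.Sylow
import Mathlib.GroupTheory.GroupAction.MultipleTransitivity
import Mathlib.GroupTheory.GroupAction.Transitive
import Mathlib.LinearAlgebra.FiniteDimensional.Basic
import Mathlib.LinearAlgebra.Pi
import Mathlib.FieldTheory.Finite.Basic

/-!
Permutation modules: equivariant kernels, submodules containing the constants, duality.
-/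

set_option autoImplicit false

namespace Cfsg.Agent.Lib.Perm

open MulAction Finset

variable {K : Type*} [Field K] {G : Type*} [Group G]
variable {Ω : Type*} [MulAction G Ω] {X : Type*} [MulAction G X]

theorem permRep_apply (g : G) (f : Ω → K) (x : Ω) : Cfsg.permRep K G Ω g f x = f (g⁻¹ • x) := rfl

theorem mem_permConstants {f : Ω → K} :
    f ∈ (Cfsg.permConstants K G Ω).toSubmodule ↔ ∃ c : K, ∀ x, f x = c := by
  show f ∈ Submodule.span K _ ↔ _
  rw [Submodule.mem_span_singleton]
  constructor
  · rintro ⟨c, rfl⟩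
    exact ⟨c, fun x => by simp⟩
  · rintro ⟨c, hc⟩
    exact ⟨c, funext fun x => by simp [hc]⟩

theorem mem_permSumZero [Fintype Ω] {f : Ω → K} :
    f ∈ (Cfsg.permSumZero K G Ω).toSubmodule ↔ ∑ x, f x = 0 := Iff.rfl

/-- The map attached to a kernel. -/
def kernelMap [Fintype Ω] (φ : X → Ω → K) : (Ω → K) →ₗ[K] (X → K) where
  toFun f y := ∑ x, φ y x * f x
  map_add' f g := funext fun y => by simp [mul_add, Finset.sum_add_distrib]
  map_smul' c f := funext fun y => by simp [Finset.mul_sum, mul_left_comm]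

theorem kernelMap_apply [Fintype Ω] (φ : X → Ω → K) (f : Ω → K) (y : X) :
    kernelMap φ f y = ∑ x, φ y x * f x := rfl

theorem kernelMap_equivariant [Fintype Ω] {φ : X → Ω → K}
    (hφ : ∀ (g : G) y x, φ (g • y) (g • x) = φ y x) (g : G) (f : Ω → K) :
    kernelMap φ (Cfsg.permRep K G Ω g f) = Cfsg.permRep K G X g (kernelMap φ f) := by
  funext y
  rw [permRep_apply, kernelMap_apply, kernelMap_apply]
  exact (Fintype.sum_equiv (MulAction.toPerm g) _ _ fun x => by
    rw [MulAction.toPerm_apply, permRep_apply, inv_smul_smul]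
    conv_rhs => rw [← smul_inv_smul g y, hφ]).symm

theorem kernelMap_single [Fintype Ω] [DecidableEq Ω] (φ : X → Ω → K) (x : Ω) (y : X) :
    kernelMap φ (Pi.single x (1 : K)) y = φ y x := by
  simp [kernelMap_apply, Pi.single_apply]

/-- Indicator of an orbit in `X × Ω`. -/
noncomputable def orbitKernel (G : Type*) [Group G] [MulAction G Ω] [MulAction G X] (K : Type*)
    [Field K] (q : X × Ω) : X → Ω → K := by
  classical exact fun y x => if (y, x) ∈ orbit G q then 1 else 0

theorem orbitKernel_self (q : X × Ω) : orbitKernel G K q q.1 q.2 = 1 := if_pos (mem_orbit_self q)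

theorem orbitKernel_of_notMem {q : X × Ω} {y : X} {x : Ω} (h : (y, x) ∉ orbit G q) :
    orbitKernel G K q y x = 0 := if_neg h

theorem smul_mem_orbit_iff {Y : Type*} [MulAction G Y] {g : G} {a b : Y} :
    g • a ∈ orbit G b ↔ a ∈ orbit G b := by
  rw [← orbit_eq_iff, orbit_smul, orbit_eq_iff]

theorem orbitKernel_inv (q : X × Ω) (g : G) (y : X) (x : Ω) :
    orbitKernel G K q (g • y) (g • x) = orbitKernel G K q y x := by
  have h : ((g • y, g • x) : X × Ω) ∈ orbit G q ↔ (y, x) ∈ orbit G q :=
    show g • (y, x) ∈ orbit G q ↔ _ by rw [smul_mem_orbit_iff]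
  unfold orbitKernel
  by_cases h' : (y, x) ∈ orbit G q
  · rw [if_pos (h.mpr h'), if_pos h']
  · rw [if_neg (mt h.mp h'), if_neg h']

/-- A nonzero invariant space of an action of a finite `p`-group in characteristic `p` has a
nonzero fixed vector. -/
theorem exists_fixed_of_pGroup {p : ℕ} [hp : Fact p.Prime] [CharP K p] {P : Type*} [Group P]
    [Finite P] (hP : IsPGroup p P) {V : Type*} [AddCommGroup V] [Module K V]
    (ρ : Representation K P V) {v : V} (hv : v ≠ 0) (W : Submodule K V) (hvW : v ∈ W)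
    (hW : ∀ g, ∀ w ∈ W, ρ g w ∈ W) : ∃ w ∈ W, w ≠ 0 ∧ ∀ g, ρ g w = w := by
  let S : AddSubgroup V := AddSubgroup.closure (Set.range fun g : P => ρ g v)
  have hS : ∀ g : P, ∀ w ∈ S, ρ g w ∈ S := by
    intro g w hw
    induction hw using AddSubgroup.closure_induction with
    | mem x hx =>
      obtain ⟨h, rfl⟩ := hx
      exact AddSubgroup.subset_closure ⟨g * h, by simp⟩
    | zero => simp
    | add a b _ _ ha hb => rw [map_add]; exact add_mem ha hb
    | neg a _ ha => rw [map_neg]; exact neg_mem ha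
  have hSW : ∀ w ∈ S, w ∈ W := by
    intro w hw
    induction hw using AddSubgroup.closure_induction with
    | mem x hx => obtain ⟨h, rfl⟩ := hx; exact hW h _ hvW
    | zero => simp
    | add a b _ _ ha hb => exact add_mem ha hb
    | neg a _ ha => exact neg_mem ha
  have hexp : ∀ w : S, p • w = 0 := fun w => Subtype.ext (by
    rw [AddSubgroupClass.coe_nsmul, ← Nat.cast_smul_eq_nsmul K, CharP.cast_eq_zero, zero_smul]
    rfl)
  have hfin : Finite S := by
    have hfg : S.FG := AddSubgroup.fg_iff _ |>.mpr ⟨_, rfl, Set.finite_range _⟩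
    have : AddGroup.FG S := AddGroup.fg_iff_addSubgroup_fg _ |>.mpr hfg
    exact AddCommGroup.finite_of_fg_isAddTorsion S fun w =>
      isOfFinAddOrder_iff_nsmul_eq_zero.mpr ⟨p, hp.out.pos, hexp w⟩
  have hS1 : v ∈ S := AddSubgroup.subset_closure ⟨1, by simp⟩
  let _ : MulAction P S :=
    { smul := fun g w => ⟨ρ g w, hS g w w.2⟩
      one_smul := fun w => Subtype.ext (by show ρ 1 (w : V) = w; rw [map_one]; rfl)
      mul_smul := fun g h w => Subtype.ext (by
        show ρ (g * h) (w : V) = ρ g (ρ h w)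
        rw [map_mul]; rfl) }
  have hdvd : p ∣ Nat.card S := by
    have hne : (⟨v, hS1⟩ : S) ≠ 0 := fun h => hv (congrArg Subtype.val h)
    have : addOrderOf (⟨v, hS1⟩ : S) = p := by
      rcases (Nat.dvd_prime hp.out).mp (addOrderOf_dvd_iff_nsmul_eq_zero.mpr (hexp ⟨v, hS1⟩)) with
        h | h
      · exact absurd (AddMonoid.addOrderOf_eq_one_iff.mp h) hne
      · exact h
    exact this ▸ addOrderOf_dvd_natCard _
  have h0 : (0 : S) ∈ fixedPoints P S := fun g => Subtype.ext (by show ρ g (0 : V) = 0; simp)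
  obtain ⟨b, hb, hne⟩ := hP.exists_fixed_point_of_prime_dvd_card_of_fixed_point S hdvd h0
  exact ⟨b, hSW b b.2, fun h => hne (Subtype.ext h.symm), fun g => congrArg Subtype.val (hb g)⟩

/-- Orbits of a Sylow subgroup in a transitive action of prime power degree. -/
theorem sylow_pretransitive [Finite G] [Finite Ω] [IsPretransitive G Ω] {p k : ℕ}
    [hp : Fact p.Prime] (hcard : Nat.card Ω = p ^ k) (P : Sylow p G) :
    IsPretransitive (P : Subgroup G) Ω := by
  have hne : Nonempty Ω := (Nat.card_ne_zero.mp (hcard ▸ pow_ne_zero k hp.out.ne_zero)).1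
  obtain ⟨a⟩ := hne
  rw [isPretransitive_iff_orbit_eq_univ a]
  refine Set.eq_of_subset_of_ncard_le (Set.subset_univ _) ?_ (Set.toFinite _)
  rw [Set.ncard_univ, hcard, ← Nat.card_coe_set_eq]
  obtain ⟨j, hj⟩ := P.2.card_orbit a
  rw [hj]
  have hidx : (stabilizer G a).index = p ^ k := by rw [index_stabilizer_of_transitive, hcard]
  have hjdef : ((stabilizer G a).subgroupOf P).index = p ^ j := by
    rw [← hj, show (stabilizer G a).subgroupOf P = stabilizer (P : Subgroup G) a from rfl,
      index_stabilizer, Nat.card_coe_set_eq]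
  have hdvd : p ^ k ∣ (P : Subgroup G).index * p ^ j := by
    rw [← hidx, ← hjdef, mul_comm]
    have h1 := Subgroup.relIndex_mul_index
      (inf_le_right : stabilizer G a ⊓ (P : Subgroup G) ≤ P)
    rw [Subgroup.inf_relIndex_right] at h1
    show _ ∣ (stabilizer G a).relIndex P * (P : Subgroup G).index
    rw [h1]
    exact Subgroup.index_dvd_of_le inf_le_left
  exact Nat.le_of_dvd (pow_pos hp.out.pos j)
    (((hp.out.coprime_iff_not_dvd.mpr P.not_dvd_index).pow_left k).dvd_of_dvd_mul_left hdvd)

/-- In prime-power degree, characteristic `p`, nonzero invariant subspaces contain the constants. -/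
theorem constants_le [Finite G] [Finite Ω] [IsPretransitive G Ω] {p k : ℕ} [hp : Fact p.Prime]
    [CharP K p] (hcard : Nat.card Ω = p ^ k) (W : Subrepresentation (Cfsg.permRep K G Ω))
    (hW : W.toSubmodule ≠ ⊥) : (Cfsg.permConstants K G Ω).toSubmodule ≤ W.toSubmodule := by
  obtain ⟨P⟩ : Nonempty (Sylow p G) := inferInstance
  have hPt := sylow_pretransitive hcard P
  obtain ⟨v, hvW, hv⟩ := Submodule.exists_mem_ne_zero_of_ne_bot hW
  obtain ⟨w, hwW, hw0, hw⟩ := exists_fixed_of_pGroup P.2
    ((Cfsg.permRep K G Ω).comp (P : Subgroup G).subtype) hv W.toSubmodule hvW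
    fun g x hx => W.apply_mem_toSubmodule g hx
  obtain ⟨a, ha⟩ : ∃ a, w a ≠ 0 := Function.ne_iff.mp hw0
  have hc : ∀ x, w x = w a := by
    intro x
    obtain ⟨g, rfl⟩ := exists_smul_eq (P : Subgroup G) a x
    have h1 : w ((g : G)⁻¹ • g • a) = w (g • a) := congrFun (hw g) (g • a)
    rw [← h1, Subgroup.smul_def, inv_smul_smul]
  intro f hf
  obtain ⟨c, hc'⟩ := mem_permConstants.mp hf
  have : f = (c / w a) • w := funext fun x => by simp [hc x, hc', ha]
  exact this ▸ W.toSubmodule.smul_mem _ hwW

/-- The orthogonal of an invariant subspace for the dot product. -/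
def orthRep [Fintype Ω] (W : Subrepresentation (Cfsg.permRep K G Ω)) :
    Subrepresentation (Cfsg.permRep K G Ω) where
  toSubmodule :=
    { carrier := {u | ∀ w ∈ W.toSubmodule, ∑ x, u x * w x = 0}
      add_mem' := fun {a b} ha hb w hw => by
        simp only [Pi.add_apply, add_mul, Finset.sum_add_distrib, ha w hw, hb w hw, add_zero]
      zero_mem' := fun w _ => by simp
      smul_mem' := fun c a ha w hw => by
        simp only [Pi.smul_apply, smul_eq_mul, mul_assoc, ← Finset.mul_sum, ha w hw, mul_zero] }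
  apply_mem_toSubmodule g u hu w hw := by
    rw [← hu (Cfsg.permRep K G Ω g⁻¹ w) (W.apply_mem_toSubmodule g⁻¹ hw)]
    exact (Fintype.sum_equiv (MulAction.toPerm g) _ _ fun x => by
      rw [MulAction.toPerm_apply, permRep_apply, permRep_apply, inv_inv, inv_smul_smul]).symm

theorem mem_orthRep [Fintype Ω] {W : Subrepresentation (Cfsg.permRep K G Ω)} {u : Ω → K} :
    u ∈ (orthRep W).toSubmodule ↔ ∀ w ∈ W.toSubmodule, ∑ x, u x * w x = 0 := Iff.rfl

/-- In prime-power degree, characteristic `p`, proper invariant subspaces have sum zero. -/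
theorem le_sumZero [Finite G] [Fintype Ω] [IsPretransitive G Ω] {p k : ℕ} [hp : Fact p.Prime]
    [CharP K p] (hcard : Nat.card Ω = p ^ k) (W : Subrepresentation (Cfsg.permRep K G Ω))
    (hW : W.toSubmodule ≠ ⊤) : W.toSubmodule ≤ (Cfsg.permSumZero K G Ω).toSubmodule := by
  classical
  obtain ⟨ℓ, hℓ0, hℓ⟩ := Submodule.exists_le_ker_of_lt_top _ (lt_top_iff_ne_top.mpr hW)
  let u : Ω → K := fun x => ℓ (Pi.single x 1)
  have hu : ∀ w, ℓ w = ∑ x, u x * w x := by
    intro w
    conv_lhs => rw [pi_eq_sum_univ' w, map_sum]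
    exact Finset.sum_congr rfl fun x _ => by rw [map_smul, smul_eq_mul, mul_comm]
  have hne : (orthRep W).toSubmodule ≠ ⊥ := by
    intro h
    apply hℓ0
    have hu0 : u ∈ (orthRep W).toSubmodule := mem_orthRep.mpr fun w hw => by
      rw [← hu]; exact LinearMap.mem_ker.mp (hℓ hw)
    rw [h, Submodule.mem_bot] at hu0
    exact LinearMap.ext fun w => by simp [hu, hu0]
  have h1 := constants_le hcard (orthRep W) hne (x := fun _ => (1 : K))
    (mem_permConstants.mpr ⟨1, fun _ => rfl⟩)
  intro w hw
  rw [mem_permSumZero]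
  simpa using mem_orthRep.mp h1 w hw

/-- The restriction of a kernel map to an invariant subspace. -/
noncomputable def kernelIntertwiner [Fintype Ω] (φ : X → Ω → K)
    (hφ : ∀ (g : G) y x, φ (g • y) (g • x) = φ y x) (W : Subrepresentation (Cfsg.permRep K G Ω)) :
    Representation.IntertwiningMap W.toRepresentation (Cfsg.permRep K G X) :=
  LinearMap.intertwiningMap_of_isIntertwiningMap _ _ ((kernelMap φ).domRestrict W.toSubmodule)
    fun g v => kernelMap_equivariant hφ g (v : Ω → K)

/-- A kernel killing all sum-zero functions is constant on rows. -/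
theorem row_constant [Fintype Ω] {φ : X → Ω → K}
    (h : ∀ f : Ω → K, ∑ x, f x = 0 → kernelMap φ f = 0) (y : X) (x x' : Ω) : φ y x = φ y x' := by
  classical
  have h1 := congrFun (h (Pi.single x 1 - Pi.single x' 1) (by simp)) y
  rwa [map_sub, Pi.sub_apply, Pi.zero_apply, kernelMap_single, kernelMap_single, sub_eq_zero] at h1

end Cfsg.Agent.Lib.Perm
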