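import Cfsg.Agent.Lib.Perm.Modules
import Cfsg.Agent.Lib.Perm.PrimeDegree
import Cfsg.Agent.Lib.Perm.ZModPoly
import Cfsg.Agent.S0671
import Mathlib.GroupTheory.Solvable

/-!
Groups of prime degree: labelling by `ZMod p`, affine elements, invariant subspaces.
-/

set_option autoImplicit false

namespace Cfsg.Agent.Lib.Perm

open MulAction

variable {G : Type*} [Group G] {Ω : Type*} [MulAction G Ω] {p : ℕ} [hp : Fact p.Prime]

/-- A labelling of `Ω` in which `c` is the translation by one. -/
def IsLabel (c : G) (e : Ω ≃ ZMod p) : Prop := ∀ x, e (c • x) = e x + 1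

theorem exists_label (hΩ : Nat.card Ω = p) {c : G} (hc : orderOf c = p)
    (hfree : ∀ x : Ω, c • x ≠ x) : ∃ e : Ω ≃ ZMod p, IsLabel c e := by
  have : Finite Ω := Nat.finite_of_card_ne_zero (hΩ ▸ hp.out.ne_zero)
  obtain ⟨a⟩ : Nonempty Ω := (Nat.card_ne_zero.mp (hΩ ▸ hp.out.ne_zero)).1
  let f : ZMod p → Ω := fun j => c ^ j.val • a
  have hpow : ∀ n : ℕ, c ^ n = c ^ ((n : ZMod p).val) := fun n => by
    rw [ZMod.val_natCast, ← hc, pow_mod_orderOf]
  have hinj : Function.Injective f := by
    intro i j h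
    by_contra hne
    have h2 : c ^ ((i - j : ZMod p).val) • f j = f j := by
      show c ^ _ • c ^ j.val • a = c ^ j.val • a
      rw [← mul_smul, ← pow_add, hpow, Nat.cast_add, ZMod.natCast_zmod_val, ZMod.natCast_zmod_val,
        sub_add_cancel]
      exact h
    -- a power fixing a point fixes it under `c`
    have hk : (i - j : ZMod p).val.Coprime p := by
      rw [Nat.coprime_comm, hp.out.coprime_iff_not_dvd]
      intro hd
      have hlt := ZMod.val_lt (i - j)
      have := Nat.eq_zero_of_dvd_of_lt hd hlt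
      exact hne (sub_eq_zero.mp ((ZMod.val_eq_zero _).mp this))
    apply hfree (f j)
    have h3 : c ^ (i - j : ZMod p).val ∈ stabilizer G (f j) := h2
    obtain ⟨m, hm⟩ := exists_pow_eq_self_of_coprime (n := (i - j : ZMod p).val) (x := c) (by rwa [hc])
    have h4 := pow_mem h3 m
    rw [hm] at h4
    exact h4
  have hbij : Function.Bijective f := (Nat.bijective_iff_injective_and_card _).mpr
    ⟨hinj, by rw [Nat.card_zmod, hΩ]⟩
  refine ⟨(Equiv.ofBijective f hbij).symm, fun x => ?_⟩
  obtain ⟨j, rfl⟩ := hbij.2 x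
  rw [show (Equiv.ofBijective f hbij).symm (f j) = j from Equiv.symm_apply_apply _ j,
    Equiv.symm_apply_eq]
  show c • c ^ j.val • a = c ^ (j + 1).val • a
  rw [← mul_smul, ← pow_succ', hpow (j.val + 1), Nat.cast_add, ZMod.natCast_zmod_val, Nat.cast_one]

theorem exists_label_faithful [FaithfulSMul G Ω] (hΩ : Nat.card Ω = p) {c : G}
    (hc : orderOf c = p) : ∃ e : Ω ≃ ZMod p, IsLabel c e := by
  have : Finite Ω := Nat.finite_of_card_ne_zero (hΩ ▸ hp.out.ne_zero)
  have ht := zpowers_pretransitive_of_prime hΩ hc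
  refine exists_label hΩ hc fun x hx => ?_
  have h1 : c = 1 := eq_of_smul_eq_smul (α := Ω) fun y => by
    obtain ⟨⟨z, hz⟩, rfl⟩ := exists_smul_eq (Subgroup.zpowers c) x y
    obtain ⟨i, rfl⟩ := hz
    show c • c ^ i • x = (1 : G) • c ^ i • x
    rw [one_smul, ← mul_smul, (Commute.zpow_right (Commute.refl c) i).eq, mul_smul, hx]
  rw [h1, orderOf_one] at hc
  exact hp.out.ne_one hc.symm

variable {c : G} {e : Ω ≃ ZMod p}

theorem IsLabel.zpow (he : IsLabel c e) (i : ℤ) (x : Ω) : e (c ^ i • x) = e x + i := by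
  induction i using Int.induction_on generalizing x with
  | zero => simp
  | succ n ih =>
    rw [zpow_add, zpow_one, mul_smul, ih, he]
    push_cast
    ring
  | pred n ih =>
    rw [zpow_sub, zpow_one, mul_smul, ih]
    have := he (c⁻¹ • x)
    rw [smul_inv_smul] at this
    rw [this]
    push_cast
    ring

/-- Elements normalizing `c` act by affine maps. -/
theorem IsLabel.affine_of_conj [NeZero p] (he : IsLabel c e) {g : G} {i : ℤ} (hg : g * c = c ^ i * g)
    (x : Ω) : e (g • x) = (i : ZMod p) * e x + e (g • e.symm 0) := by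
  have hn : ∀ n : ℕ, g * c ^ n = c ^ (i * n) * g := by
    intro n
    induction n with
    | zero => simp
    | succ n ih =>
      rw [pow_succ, ← mul_assoc, ih, mul_assoc, hg, ← mul_assoc, ← zpow_add, Nat.cast_succ, mul_add,
        mul_one]
  have hx : c ^ (e x).val • e.symm 0 = x := by
    apply e.injective
    rw [← zpow_natCast, he.zpow, Equiv.apply_symm_apply, zero_add, Int.cast_natCast,
      ZMod.natCast_zmod_val]
  conv_lhs => rw [← hx, ← mul_smul, hn, mul_smul, he.zpow]
  push_cast
  rw [ZMod.natCast_zmod_val, add_comm]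

/-- `g` acts as an affine map. -/
def IsAffineElt (e : Ω ≃ ZMod p) (g : G) : Prop := ∃ a b : ZMod p, ∀ x, e (g • x) = a * e x + b

theorem affine_of_le_three (hp3 : p ≤ 3) (e : Ω ≃ ZMod p) (g : G) : IsAffineElt e g := by
  have h3 : ∀ π : ZMod 3 → ZMod 3, Function.Injective π → ∃ a b : ZMod 3, ∀ j, π j = a * j + b := by
    decide
  have h2 : ∀ π : ZMod 2 → ZMod 2, ∃ a b : ZMod 2, ∀ j, π j = a * j + b := by decide
  let π : ZMod p → ZMod p := fun j => e (g • e.symm j)
  have hπ : Function.Injective π := fun i j h =>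
    e.symm.injective (MulAction.injective g (e.injective h))
  have key : ∃ a b : ZMod p, ∀ j, π j = a * j + b := by
    have := hp.out.two_le
    interval_cases p
    · exact h2 π
    · exact h3 π hπ
  obtain ⟨a, b, h⟩ := key
  exact ⟨a, b, fun x => by rw [← h (e x)]; simp [π]⟩

theorem affine_slope_ne {g : G} {a b : ZMod p} (h : ∀ x, e (g • x) = a * e x + b) : a ≠ 0 := by
  intro ha
  have : g • e.symm 0 = g • e.symm 1 := e.injective (by rw [h, h, ha]; simp)
  exact zero_ne_one (e.symm.injective (MulAction.injective g this))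

/-- The slope of an affine element. -/
def slope (e : Ω ≃ ZMod p) (g : G) : ZMod p := e (g • e.symm 1) - e (g • e.symm 0)

theorem slope_spec {g : G} (h : IsAffineElt e g) (x : Ω) :
    e (g • x) = slope e g * e x + e (g • e.symm 0) := by
  obtain ⟨a, b, h⟩ := h
  simp only [slope, h, Equiv.apply_symm_apply]
  ring

theorem slope_mul {g k : G} (hg : IsAffineElt e g) (hk : IsAffineElt e k) :
    slope e (g * k) = slope e g * slope e k := by
  obtain ⟨a, b, hg⟩ := hg
  obtain ⟨c', d, hk⟩ := hk
  simp only [slope, mul_smul, hg, hk, Equiv.apply_symm_apply]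
  ring

theorem isSolvable_of_affine [FaithfulSMul G Ω] (e : Ω ≃ ZMod p) (h : ∀ g : G, IsAffineElt e g) :
    Group.IsSolvable G := by
  let m : G →* ZMod p :=
    { toFun := slope e
      map_one' := by simp [slope]
      map_mul' := fun g k => slope_mul (h g) (h k) }
  let f : G →* (ZMod p)ˣ := m.toHomUnits
  let incl : f.ker →* G := f.ker.subtype
  have hcomm : ∀ a b : f.ker, a * b = b * a := by
    intro a b
    have hs : ∀ g : f.ker, ∀ x, e ((g : G) • x) = e x + e ((g : G) • e.symm 0) := fun g x => by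
      have : slope e (g : G) = 1 := congrArg Units.val g.2
      rw [slope_spec (h g) x, this, one_mul]
    apply Subtype.ext
    refine eq_of_smul_eq_smul (α := Ω) fun x => e.injective ?_
    simp only [Subgroup.coe_mul, mul_smul]
    rw [hs a, hs b x, hs b ((a : G) • x), hs a x]
    ring
  have : Group.IsSolvable f.ker := Group.isSolvable_of_comm hcomm
  exact Group.isSolvable_of_ker_le_range incl f (by rw [f.ker.range_subtype])

theorem five_le_of_not_affine (hna : ¬ ∀ g : G, IsAffineElt e g) : 5 ≤ p := by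
  by_contra hlt
  apply hna
  intro g
  refine affine_of_le_three ?_ e g
  have h4 : p ≠ 4 := fun h => absurd (h ▸ hp.out) (by decide)
  omega

section Modules

variable {K : Type*} [Field K] [CharP K p] [Fintype Ω]

/-- Invariant subspaces between constants and sum-zero are trivial unless all elements are affine. -/
theorem submodule_trivial (he : IsLabel c e) (hna : ¬ ∀ g : G, IsAffineElt e g)
    (W : Subrepresentation (Cfsg.permRep K G Ω))
    (h1 : (Cfsg.permConstants K G Ω).toSubmodule ≤ W.toSubmodule)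
    (h2 : W.toSubmodule ≤ (Cfsg.permSumZero K G Ω).toSubmodule) :
    W.toSubmodule = (Cfsg.permConstants K G Ω).toSubmodule ∨
      W.toSubmodule = (Cfsg.permSumZero K G Ω).toSubmodule := by
  by_contra hno
  push Not at hno
  let W' : Submodule K (ZMod p → K) := W.toSubmodule.comap (LinearMap.funLeft K K e)
  have hmem : ∀ F : ZMod p → K, F ∈ W' ↔ (fun x => F (e x)) ∈ W.toSubmodule := fun F => Iff.rfl
  have hperm : ∀ (g : G) (F : ZMod p → K), F ∈ W' → (fun j => F (e (g⁻¹ • e.symm j))) ∈ W' := by
    intro g F hF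
    rw [hmem] at hF ⊢
    simp only [Equiv.symm_apply_apply]
    exact W.apply_mem_toSubmodule g hF
  have hshift : ∀ F ∈ W', (fun j => F (j - 1)) ∈ W' := by
    intro F hF
    have := hperm c F hF
    convert this using 1
    funext j
    congr 1
    have h := he (c⁻¹ • e.symm j)
    rw [smul_inv_smul, Equiv.apply_symm_apply] at h
    exact (eq_sub_of_add_eq h.symm).symm
  have hone : (fun _ => (1 : K)) ∈ W' := (hmem _).mpr (h1 (mem_permConstants.mpr ⟨1, fun _ => rfl⟩))
  have hsum : ∀ F ∈ W', ∑ j, F j = 0 := fun F hF => by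
    rw [← mem_permSumZero.mp (h2 ((hmem F).mp hF))]
    exact (Fintype.sum_equiv e _ _ fun x => rfl).symm
  have hnC : ∃ F ∈ W', ¬ ∃ k, ∀ j, F j = k := by
    obtain ⟨f, hf, hf'⟩ := SetLike.not_le_iff_exists.mp (fun hle => hno.1 (le_antisymm hle h1))
    refine ⟨fun j => f (e.symm j), (hmem _).mpr (by simpa using hf), fun ⟨k, hk⟩ => hf' ?_⟩
    exact mem_permConstants.mpr ⟨k, fun x => by simpa using hk (e x)⟩
  have hnS : ∃ F : ZMod p → K, ∑ j, F j = 0 ∧ F ∉ W' := by
    obtain ⟨f, hf, hf'⟩ := SetLike.not_le_iff_exists.mp (fun hle => hno.2 (le_antisymm h2 hle))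
    refine ⟨fun j => f (e.symm j), ?_, fun h => hf' (by simpa using (hmem _).mp h)⟩
    rw [← mem_permSumZero.mp hf]
    exact (Fintype.sum_equiv e _ _ fun x => by simp).symm
  apply hna
  intro g
  obtain ⟨a, b, hab⟩ := ZModPoly.affine_of_preserved hshift hone hnC hsum hnS
    (fun j => e (g • e.symm j))
    ⟨fun i j h => e.symm.injective (MulAction.injective g (e.injective h)),
      fun j => ⟨e (g⁻¹ • e.symm j), by simp⟩⟩
    (fun F hF => by
      have := hperm g⁻¹ F hF
      simpa only [inv_inv, Function.comp_def] using this)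
  exact ⟨a, b, fun x => by simpa using hab (e x)⟩

theorem two_transitive [Finite G] [IsPretransitive G Ω] (he : IsLabel c e)
    (hna : ¬ ∀ g : G, IsAffineElt e g) : IsMultiplyPretransitive G Ω 2 := by
  have hp5 := five_le_of_not_affine hna
  have hcard : Fintype.card Ω = p ^ 1 := by
    rw [pow_one, Fintype.card_congr e, ZMod.card]
  refine S0671.result (K := ZMod p) (p := p) le_rfl hcard fun W W' hW hlt hW' => ?_
  have hWC : W.toSubmodule = (Cfsg.permConstants (ZMod p) G Ω).toSubmodule :=
    (submodule_trivial he hna W hW (hlt.le.trans hW')).resolve_right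
      fun h => absurd (hlt.trans_le hW') (h ▸ lt_irrefl _)
  have hW'S : W'.toSubmodule = (Cfsg.permSumZero (ZMod p) G Ω).toSubmodule :=
    (submodule_trivial he hna W' (hW.trans hlt.le) hW').resolve_left
      fun h => absurd (h ▸ hlt : W.toSubmodule < _) (hWC ▸ lt_irrefl _)
  refine ⟨c, fun x => (e x) ^ 2, ?_, ?_⟩
  · rw [hW'S, mem_permSumZero, Fintype.sum_equiv e _ (fun j => j ^ 2) fun x => rfl]
    exact FiniteField.sum_pow_lt_card_sub_one (ZMod p) 2 (by rw [ZMod.card]; omega)
  · rw [hWC, mem_permConstants]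
    rintro ⟨k, hk⟩
    have hval : ∀ j : ZMod p, (j - 1) ^ 2 - j ^ 2 = k := by
      intro j
      have h := hk (e.symm j)
      rw [Pi.sub_apply, permRep_apply] at h
      have h2 := he (c⁻¹ • e.symm j)
      rw [smul_inv_smul, Equiv.apply_symm_apply] at h2
      rw [Equiv.apply_symm_apply, eq_sub_of_add_eq h2.symm] at h
      exact h
    have h0 := hval 0
    have h1 := hval 1
    have : ((2 : ℕ) : ZMod p) = 0 := by push_cast; linear_combination h0 - h1
    rw [ZMod.natCast_eq_zero_iff] at this
    have := Nat.le_of_dvd two_pos this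
    omega

/-- An equivariant map killing the constants and one non-constant sum-zero function. -/
theorem kills_sumZero (he : IsLabel c e) (hna : ¬ ∀ g : G, IsAffineElt e g) {V : Type*}
    [AddCommGroup V] [Module K V] (σ : Representation K G V)
    (f : Representation.IntertwiningMap (Cfsg.permSumZero K G Ω).toRepresentation σ)
    (hC : ∀ v : (Cfsg.permSumZero K G Ω).toSubmodule,
      (v : Ω → K) ∈ (Cfsg.permConstants K G Ω).toSubmodule → f v = 0)
    (v₀ : (Cfsg.permSumZero K G Ω).toSubmodule)
    (hv₀ : (v₀ : Ω → K) ∉ (Cfsg.permConstants K G Ω).toSubmodule) (hf₀ : f v₀ = 0) : f = 0 := by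
  have hp5 := five_le_of_not_affine hna
  have hCS : (Cfsg.permConstants K G Ω).toSubmodule ≤ (Cfsg.permSumZero K G Ω).toSubmodule := by
    intro w hw
    obtain ⟨k, hk⟩ := mem_permConstants.mp hw
    rw [mem_permSumZero, Finset.sum_congr rfl fun x _ => hk x, Finset.sum_const, Finset.card_univ,
      Fintype.card_congr e, ZMod.card, nsmul_eq_mul, CharP.cast_eq_zero, zero_mul]
  let Z : Subrepresentation (Cfsg.permRep K G Ω) :=
    ⟨(LinearMap.ker f.toLinearMap).map (Cfsg.permSumZero K G Ω).toSubmodule.subtype,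
      fun g w hw => by
        obtain ⟨v, hv, rfl⟩ := hw
        refine ⟨(Cfsg.permSumZero K G Ω).toRepresentation g v, ?_, rfl⟩
        rw [SetLike.mem_coe, LinearMap.mem_ker] at hv ⊢
        have := LinearMap.congr_fun (f.isIntertwining' g) v
        simp only [LinearMap.comp_apply] at this
        rw [this, hv, map_zero]⟩
  have hZ1 : (Cfsg.permConstants K G Ω).toSubmodule ≤ Z.toSubmodule := fun w hw =>
    ⟨⟨w, hCS hw⟩, LinearMap.mem_ker.mpr (hC ⟨w, hCS hw⟩ hw), rfl⟩
  have hZ2 : Z.toSubmodule ≤ (Cfsg.permSumZero K G Ω).toSubmodule := by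
    rintro _ ⟨v, -, rfl⟩; exact v.2
  have hv : (v₀ : Ω → K) ∈ Z.toSubmodule := ⟨v₀, LinearMap.mem_ker.mpr hf₀, rfl⟩
  have hZ := (submodule_trivial he hna Z hZ1 hZ2).resolve_left fun h => hv₀ (h ▸ hv)
  refine Representation.IntertwiningMap.ext (LinearMap.ext fun v => ?_)
  obtain ⟨w, hw, hwv⟩ := show (v : Ω → K) ∈ Z.toSubmodule from hZ.symm ▸ v.2
  rw [show v = w from Subtype.ext hwv.symm, LinearMap.mem_ker.mp hw]
  rfl

/-- An intertwiner into a permutation module whose invariant vectors under `c` are fixed by `t`,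
where `t` negates the labelling, kills the sum-zero functions if it kills the constants. -/
theorem eq_zero_of_neg (he : IsLabel c e) (hna : ¬ ∀ g : G, IsAffineElt e g) {X : Type*}
    [MulAction G X] {t : G} (ht : ∀ x, e (t⁻¹ • x) = -e x)
    (hX : ∀ y : X, ∃ i : ℤ, t⁻¹ • y = c ^ i • y)
    (f : Representation.IntertwiningMap (Cfsg.permSumZero K G Ω).toRepresentation
      (Cfsg.permRep K G X))
    (hC : ∀ v : (Cfsg.permSumZero K G Ω).toSubmodule,
      (v : Ω → K) ∈ (Cfsg.permConstants K G Ω).toSubmodule → f v = 0) : f = 0 := by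
  have hp5 := five_le_of_not_affine hna
  let l : Ω → K := fun x => (ZMod.cast (e x) : K)
  have hl : ∑ x, l x = 0 := by
    rw [Fintype.sum_equiv e l (fun j => (ZMod.cast j : K)) fun x => rfl]
    have h : ∑ j : ZMod p, j = 0 := by
      simpa using FiniteField.sum_pow_lt_card_sub_one (ZMod p) 1 (by rw [ZMod.card]; omega)
    have h2 := congrArg (ZMod.castHom dvd_rfl K) h
    rwa [map_sum, map_zero] at h2
  let v₀ : (Cfsg.permSumZero K G Ω).toSubmodule := ⟨l, hl⟩
  have hcast : ∀ j : ZMod p, ZMod.castHom dvd_rfl K j = (ZMod.cast j : K) := fun j => rfl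
  have hv₀ : (v₀ : Ω → K) ∉ (Cfsg.permConstants K G Ω).toSubmodule := by
    rintro h
    obtain ⟨k, hk⟩ := mem_permConstants.mp h
    have h0 := hk (e.symm 0)
    have h1 := hk (e.symm 1)
    simp only [v₀, l, Equiv.apply_symm_apply, ← hcast, map_zero, map_one] at h0 h1
    exact one_ne_zero (h1.trans h0.symm)
  refine kills_sumZero he hna _ f hC v₀ hv₀ (funext fun y => ?_)
  have hint : ∀ (g : G) (v : (Cfsg.permSumZero K G Ω).toSubmodule),
      f ((Cfsg.permSumZero K G Ω).toRepresentation g v) = Cfsg.permRep K G X g (f v) := fun g v =>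
    LinearMap.congr_fun (f.isIntertwining' g) v
  have hec : ∀ x, e (c⁻¹ • x) = e x - 1 := fun x => by
    have := he (c⁻¹ • x)
    rw [smul_inv_smul] at this
    rw [this, add_sub_cancel_right]
  have hfc : ∀ z : X, f v₀ (c⁻¹ • z) = f v₀ z := by
    intro z
    have h1 : Cfsg.permRep K G X c (f v₀) z = f v₀ z := by
      rw [← hint]
      have hd : (((Cfsg.permSumZero K G Ω).toRepresentation c v₀ - v₀ :
          (Cfsg.permSumZero K G Ω).toSubmodule) : Ω → K) ∈
          (Cfsg.permConstants K G Ω).toSubmodule := by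
        refine mem_permConstants.mpr ⟨-1, fun x => ?_⟩
        show l (c⁻¹ • x) - l x = -1
        simp only [l, hec, ← hcast, map_sub, map_one]
        ring
      have h0 := hC _ hd
      rw [map_sub, sub_eq_zero] at h0
      rw [h0]
    rwa [permRep_apply] at h1
  have hinv : ∀ (i : ℤ) (z : X), f v₀ (c ^ i • z) = f v₀ z := by
    intro i
    induction i using Int.induction_on with
    | zero => simp
    | succ n ih =>
      intro z
      rw [zpow_add, zpow_one, mul_smul, ih, ← hfc (c • z), inv_smul_smul]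
    | pred n ih =>
      intro z
      rw [zpow_sub, zpow_one, mul_smul, ih, hfc]
  have h1 : Cfsg.permRep K G X t (f v₀) y = -f v₀ y := by
    rw [← hint, show (Cfsg.permSumZero K G Ω).toRepresentation t v₀ = -v₀ from Subtype.ext
      (funext fun x => by
        show l (t⁻¹ • x) = -l x
        simp only [l, ht, ← hcast, map_neg]), map_neg]
    rfl
  obtain ⟨i, hi⟩ := hX y
  rw [permRep_apply, hi, hinv] at h1
  have h2 : (2 : K) * f v₀ y = 0 := by linear_combination h1
  refine (mul_eq_zero.mp h2).resolve_left fun h => ?_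
  have h3 : p ∣ 2 := (CharP.cast_eq_zero_iff K p 2).mp (by exact_mod_cast h)
  have := Nat.le_of_dvd two_pos h3
  omega

end Modules

/-- An involution normalizing `c` inverts it and negates a suitable labelling. -/
theorem exists_negation [FaithfulSMul G Ω] (hp2 : 3 ≤ p) (he : IsLabel c e) {t : G}
    (ht : orderOf t = 2) (hn : t * c * t⁻¹ ∈ Subgroup.zpowers c) :
    t * c = c⁻¹ * t ∧ ∃ e' : Ω ≃ ZMod p, IsLabel c e' ∧ ∀ x, e' (t⁻¹ • x) = -e' x := by
  obtain ⟨i, hi⟩ := hn
  have hi' : c ^ i = t * c * t⁻¹ := hi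
  have hg : t * c = c ^ i * t := by rw [hi', inv_mul_cancel_right]
  have haff := he.affine_of_conj hg
  generalize hb : e (t • e.symm 0) = b at haff
  have htt : t * t = 1 := by rw [← pow_two, ← ht, pow_orderOf_eq_one]
  have hinv : t⁻¹ = t := inv_eq_of_mul_eq_one_right htt
  have hsq : ∀ x, (i : ZMod p) * ((i : ZMod p) * e x + b) + b = e x := fun x => by
    rw [← haff, ← haff, ← mul_smul, htt, one_smul]
  have h0 := hsq (e.symm 0)
  have h1 := hsq (e.symm 1)
  simp only [Equiv.apply_symm_apply] at h0 h1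
  have h2ne : (2 : ZMod p) ≠ 0 := by
    intro h
    have : ((2 : ℕ) : ZMod p) = 0 := by exact_mod_cast h
    rw [ZMod.natCast_eq_zero_iff] at this
    have := Nat.le_of_dvd two_pos this
    omega
  have hi1 : (i : ZMod p) = -1 := by
    have hsq1 : ((i : ZMod p) - 1) * ((i : ZMod p) + 1) = 0 := by linear_combination h1 - h0
    rcases mul_eq_zero.mp hsq1 with h | h
    · exfalso
      have hi1 : (i : ZMod p) = 1 := sub_eq_zero.mp h
      have hb0 : b = 0 := by
        rw [hi1] at h0
        exact (mul_eq_zero.mp (show (2 : ZMod p) * b = 0 by linear_combination h0)).resolve_left h2ne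
      have : t = 1 := eq_of_smul_eq_smul (α := Ω) fun x => e.injective (by
        rw [haff, hi1, hb0, one_smul]; ring)
      rw [this, orderOf_one] at ht
      omega
    · exact eq_neg_of_add_eq_zero_left h
  refine ⟨eq_of_smul_eq_smul (α := Ω) fun x => e.injective ?_,
    e.trans (Equiv.subRight (b / 2)), fun x => ?_, fun x => ?_⟩
  · rw [mul_smul, mul_smul, haff, he, ← zpow_neg_one, he.zpow, haff, hi1]
    push_cast
    ring
  · simp only [Equiv.trans_apply, Equiv.subRight_apply, he x]
    ring
  · simp only [Equiv.trans_apply, Equiv.subRight_apply, hinv, haff, hi1]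
    field_simp
    ring

/-- Setup for an even Sylow normalizer. -/
theorem exists_involution [Finite G] [IsPretransitive G Ω] [Finite Ω] [FaithfulSMul G Ω]
    (hΩ : Nat.card Ω = p) (P : Sylow p G)
    (heven : Even (Nat.card (Subgroup.normalizer ((P : Subgroup G) : Set G)))) :
    ∃ c t : G, orderOf c = p ∧ orderOf t = 2 ∧ t * c * t⁻¹ ∈ Subgroup.zpowers c := by
  have hPc := card_sylow_of_prime hΩ P
  obtain ⟨⟨c, hcP⟩, hc⟩ :=
    exists_prime_orderOf_dvd_card' (G := (P : Subgroup G)) p (dvd_of_eq hPc.symm)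
  rw [Subgroup.orderOf_mk] at hc
  have hz : Subgroup.zpowers c = (P : Subgroup G) := by
    refine Subgroup.eq_of_le_of_card_ge (Subgroup.zpowers_le.mpr hcP) ?_
    rw [Nat.card_zpowers, hc, hPc]
  have : Fact (Nat.Prime 2) := ⟨Nat.prime_two⟩
  obtain ⟨⟨t, htN⟩, ht⟩ := exists_prime_orderOf_dvd_card'
    (G := Subgroup.normalizer ((P : Subgroup G) : Set G)) 2 (even_iff_two_dvd.mp heven)
  rw [Subgroup.orderOf_mk] at ht
  exact ⟨c, t, hc, ht, hz ▸ (Subgroup.mem_normalizer_iff.mp htN c).mp hcP⟩

end Cfsg.Agent.Lib.Perm
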