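import Mathlib

/-!
# Fixed points on a product of two alternating classes are not constant
-/

set_option autoImplicit false

namespace Cfsg.Agent.Lib.Perm.ClassProductFix

open Equiv

variable {n : ℕ}

/-- The number of points where two permutations agree. -/
def agree (A B : Perm (Fin n)) : ℕ := (Finset.univ.filter fun i => A i = B i).card

/-- The number of fixed points. -/
def nfix (A : Perm (Fin n)) : ℕ := (Finset.univ.filter fun i => A i = i).card

theorem agree_conj (g A B : Perm (Fin n)) : agree (g * A * g⁻¹) (g * B * g⁻¹) = agree A B := by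
  refine Finset.card_equiv g.symm fun i => ?_
  simp [Perm.inv_def]

theorem agree_comm (A B : Perm (Fin n)) : agree A B = agree B A := by
  simp only [agree, eq_comm]

theorem exists_even_conj {g h : Perm (Fin n)} (hh : Perm.sign h = -1) :
    Perm.sign g = 1 ∨ Perm.sign (g * h) = 1 := by
  rcases Int.units_eq_one_or (Perm.sign g) with e | e
  · exact Or.inl e
  · right; rw [map_mul, e, hh]; rfl

theorem exists_other_two (S : Finset (Fin n)) (hS : S.card + 2 ≤ n) :
    ∃ u v : Fin n, u ≠ v ∧ u ∉ S ∧ v ∉ S := by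
  have : 2 ≤ Sᶜ.card := by rw [Finset.card_compl, Fintype.card_fin]; omega
  obtain ⟨u, hu, v, hv, huv⟩ := Finset.one_lt_card.1 (show 1 < Sᶜ.card by omega)
  exact ⟨u, v, huv, Finset.mem_compl.1 hu, Finset.mem_compl.1 hv⟩

/-- An even permutation carrying a tuple to another one. -/
theorem exists_even_tuple {k : ℕ} (hk : k + 2 ≤ n) (x y : Fin k → Fin n) (hx : Function.Injective x)
    (hy : Function.Injective y) : ∃ g : Perm (Fin n), Perm.sign g = 1 ∧ ∀ i, g (x i) = y i := by
  classical
  let e : {z // z ∈ Set.range x} ≃ {z // z ∈ Set.range y} :=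
    (Equiv.ofInjective x hx).symm.trans (Equiv.ofInjective y hy)
  have he : ∀ i, e.extendSubtype (x i) = y i := fun i => by
    rw [Equiv.extendSubtype_apply_of_mem _ _ (Set.mem_range_self i)]
    simp [e]
  obtain ⟨u, v, huv, hu, hv⟩ := exists_other_two (Finset.univ.image y) (by
    have := Finset.card_image_le (s := (Finset.univ : Finset (Fin k))) (f := y)
    simp at this
    omega)
  rcases Int.units_eq_one_or (Perm.sign e.extendSubtype) with h | h
  · exact ⟨_, h, he⟩
  · refine ⟨Equiv.swap u v * e.extendSubtype, by rw [map_mul, Perm.sign_swap huv, h]; rfl, fun i => ?_⟩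
    rw [Perm.mul_apply, he]
    exact Equiv.swap_apply_of_ne_of_ne (fun h => hu (h ▸ Finset.mem_image_of_mem y (Finset.mem_univ i)))
      fun h => hv (h ▸ Finset.mem_image_of_mem y (Finset.mem_univ i))

/-- The even permutations. -/
abbrev Ev (n : ℕ) : Finset (Perm (Fin n)) := Finset.univ.filter fun g => Perm.sign g = 1

theorem card_translate (k : ℕ) (hk : k + 2 ≤ n) (x y y' : Fin k → Fin n) (hx : Function.Injective x)
    (hy : Function.Injective y) (hy' : Function.Injective y') :
    ((Ev n).filter fun g => ∀ i, g (x i) = y i).card = ((Ev n).filter fun g => ∀ i, g (x i) = y' i).card := by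
  obtain ⟨h, hh, hyy⟩ := exists_even_tuple hk y y' hy hy'
  refine Finset.card_equiv (Equiv.mulLeft h) fun g => ?_
  simp only [Finset.mem_filter, Finset.mem_univ, true_and, Equiv.coe_mulLeft, map_mul, hh, one_mul, Perm.mul_apply]
  refine and_congr_right fun _ => forall_congr' fun i => ?_
  rw [← hyy i]
  exact h.injective.eq_iff.symm

theorem count_one (hn : 3 ≤ n) (u i : Fin n) :
    n * ((Ev n).filter fun g => g u = i).card = (Ev n).card := by
  have h : ∀ i' : Fin n, ((Ev n).filter fun g => g u = i').card = ((Ev n).filter fun g => g u = i).card := by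
    intro i'
    simpa using card_translate 1 (by omega) ![u] ![i'] ![i] (Function.injective_of_subsingleton _)
      (Function.injective_of_subsingleton _) (Function.injective_of_subsingleton _)
  rw [Finset.card_eq_sum_card_fiberwise (f := fun g : Perm (Fin n) => g u) (s := Ev n) (t := Finset.univ)
    fun _ _ => Finset.mem_univ _, Finset.sum_congr rfl fun i' _ => h i', Finset.sum_const, Finset.card_univ,
    Fintype.card_fin, smul_eq_mul]

theorem count_two (hn : 4 ≤ n) (u v i l : Fin n) (huv : u ≠ v) (hil : i ≠ l) :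
    n * (n - 1) * ((Ev n).filter fun g => g u = i ∧ g v = l).card = (Ev n).card := by
  classical
  have hinj : ∀ a b : Fin n, a ≠ b → Function.Injective ![a, b] := fun a b hab x y h => by
    fin_cases x <;> fin_cases y <;> simp_all
  have h : ∀ p ∈ (Finset.univ : Finset (Fin n)).offDiag,
      ((Ev n).filter fun g => (g u, g v) = p).card = ((Ev n).filter fun g => g u = i ∧ g v = l).card := by
    intro p hp
    have hp' : p.1 ≠ p.2 := (Finset.mem_offDiag.1 hp).2.2
    have := card_translate 2 (by omega) ![u, v] ![p.1, p.2] ![i, l] (hinj _ _ huv) (hinj _ _ hp') (hinj _ _ hil)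
    simpa [Fin.forall_fin_two, Prod.ext_iff] using this
  rw [Finset.card_eq_sum_card_fiberwise (f := fun g : Perm (Fin n) => (g u, g v)) (s := Ev n)
    (t := (Finset.univ : Finset (Fin n)).offDiag) fun g _ => Finset.mem_coe.2 (Finset.mem_offDiag.2
      ⟨Finset.mem_univ _, Finset.mem_univ _, fun e => huv (g.injective e)⟩),
    Finset.sum_congr rfl h, Finset.sum_const, Finset.offDiag_card, Finset.card_univ, Fintype.card_fin, smul_eq_mul,
    Nat.mul_sub_one]

/-- The average agreement. -/
theorem average (hn : 5 ≤ n) (A B : Perm (Fin n)) :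
    n * (n - 1) * ∑ g ∈ Ev n, agree A (g * B * g⁻¹) =
      (Ev n).card * ((n - 1) * (nfix A * nfix B) + (n - nfix A) * (n - nfix B)) := by
  classical
  have hsum : ∑ g ∈ Ev n, agree A (g * B * g⁻¹) =
      ∑ i : Fin n, ∑ u : Fin n, ((Ev n).filter fun g => g u = i ∧ g (B u) = A i).card := by
    simp only [agree, Finset.card_filter]
    rw [Finset.sum_comm]
    refine Finset.sum_congr rfl fun i _ => ?_
    rw [Finset.sum_comm]
    refine Finset.sum_congr rfl fun g _ => ?_
    rw [Finset.sum_eq_single (g⁻¹ i)]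
    · simp [Perm.inv_def, eq_comm]
      exact if_congr Iff.rfl rfl rfl
    · intro u _ hu
      rw [if_neg]
      rintro ⟨h, -⟩
      exact hu (by rw [← h]; simp [Perm.inv_def])
    · simp
  have key : ∀ i u, n * (n - 1) * ((Ev n).filter fun g => g u = i ∧ g (B u) = A i).card =
      (Ev n).card * (if A i = i then (if B u = u then n - 1 else 0) else (if B u = u then 0 else 1)) := by
    intro i u
    by_cases hA : A i = i <;> by_cases hB : B u = u <;> simp only [hA, hB, if_true, if_false]
    · rw [Finset.filter_congr (q := fun g : Perm (Fin n) => g u = i) fun g _ => ⟨fun h => h.1, fun h => ⟨h, h⟩⟩,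
        ← count_one (by omega) u i]
      ring
    · rw [mul_zero, Finset.filter_false_of_mem (fun g _ h => hB (g.injective (h.2.trans h.1.symm))),
        Finset.card_empty, mul_zero]
    · rw [mul_zero, Finset.filter_false_of_mem (fun g _ h => hA (h.2.symm.trans h.1)), Finset.card_empty, mul_zero]
    · rw [count_two (by omega) u (B u) i (A i) (Ne.symm hB) (Ne.symm hA), mul_one]
  rw [hsum, Finset.mul_sum, Finset.sum_congr rfl fun i _ => by rw [Finset.mul_sum, Finset.sum_congr rfl fun u _ => key i u]]
  simp_rw [← Finset.mul_sum]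
  congr 1
  have inner : ∀ i, ∑ u : Fin n, (if A i = i then (if B u = u then n - 1 else 0) else (if B u = u then 0 else 1)) =
      if A i = i then nfix B * (n - 1) else n - nfix B := by
    intro i
    by_cases hA : A i = i
    · simp [hA, nfix, Finset.sum_ite]
    · simp only [hA, if_false, Finset.sum_ite, Finset.sum_const_zero, zero_add, Finset.sum_const, smul_eq_mul, mul_one]
      rw [Finset.filter_not, Finset.card_sdiff_of_subset (Finset.subset_univ _), Finset.card_univ, Fintype.card_fin]
      rfl
  rw [Finset.sum_congr rfl fun i _ => inner i, Finset.sum_ite, Finset.sum_const, Finset.sum_const, smul_eq_mul,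
    smul_eq_mul, Finset.filter_not, Finset.card_sdiff_of_subset (Finset.subset_univ _), Finset.card_univ, Fintype.card_fin]
  unfold nfix
  ring

theorem nfix_lt (A : Perm (Fin n)) (hA : A ≠ 1) : nfix A + 2 ≤ n := by
  classical
  have h2 : 2 ≤ A.support.card := Perm.two_le_card_support_of_ne_one hA
  have : (Finset.univ.filter fun i => A i = i) = A.supportᶜ := by
    ext i; simp
  have hle : A.support.card ≤ n := by simpa using Finset.card_le_univ A.support
  rw [nfix, this, Finset.card_compl, Fintype.card_fin]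
  omega

theorem two_le_agree {A C : Perm (Fin n)} {i j : Fin n} (hij : i ≠ j) (hi : A i = C i) (hj : A j = C j) :
    2 ≤ agree A C :=
  Finset.one_lt_card.2 ⟨i, by simpa using hi, j, by simpa using hj, hij⟩

theorem conj_edge {g B : Perm (Fin n)} {u i l : Fin n} (h1 : g u = i) (h2 : g (B u) = l) :
    (g * B * g⁻¹) i = l := by
  rw [← h1, ← h2]
  simp [Perm.inv_def]

theorem exists_two_edges (A : Perm (Fin n)) (hs : 4 ≤ n - nfix A) :
    ∃ i j, Function.Injective ![i, A i, j, A j] := by
  classical
  have hcard : 4 ≤ (Finset.univ.filter fun z => A z ≠ z).card := by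
    rw [Finset.filter_not, Finset.card_sdiff_of_subset (Finset.subset_univ _), Finset.card_univ, Fintype.card_fin]
    exact hs
  obtain ⟨i, hi⟩ := Finset.card_pos.1 (show 0 < (Finset.univ.filter fun z => A z ≠ z).card by omega)
  simp only [Finset.mem_filter, Finset.mem_univ, true_and] at hi
  obtain ⟨j, hj, hj'⟩ := Finset.exists_mem_notMem_of_card_lt_card (s := {i, A i, A.symm i})
    (t := Finset.univ.filter fun z => A z ≠ z) (by
      have := Finset.card_le_three (a := i) (b := A i) (c := A.symm i)
      omega)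
  simp only [Finset.mem_filter, Finset.mem_univ, true_and] at hj
  simp only [Finset.mem_insert, Finset.mem_singleton, not_or] at hj'
  refine ⟨i, j, fun x y h => ?_⟩
  have h1 : A j ≠ A i := fun e => hj'.1 (A.injective e)
  have h2 : A j ≠ i := fun e => hj'.2.2 (by rw [← e, Equiv.symm_apply_apply])
  have := hj'.1
  have := hj'.2.1
  fin_cases x <;> fin_cases y <;> simp_all [eq_comm]

theorem two_paths (hn : 5 ≤ n) (A B : Perm (Fin n)) (hpA : ∃ i, A (A i) ≠ i) (hpB : ∃ u, B (B u) ≠ u) :
    ∃ g ∈ Ev n, 2 ≤ agree A (g * B * g⁻¹) := by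
  obtain ⟨i, hi⟩ := hpA
  obtain ⟨u, hu⟩ := hpB
  have inj : ∀ (C : Perm (Fin n)) (z : Fin n), C (C z) ≠ z → Function.Injective ![z, C z, C (C z)] := by
    intro C z hz x y h
    have h1 : C z ≠ z := fun e => hz (by rw [e, e])
    have h2 : C (C z) ≠ C z := fun e => h1 (C.injective e)
    fin_cases x <;> fin_cases y <;> simp_all [eq_comm]
  obtain ⟨g, hg, hgx⟩ := exists_even_tuple (by omega) _ _ (inj B u hu) (inj A i hi)
  refine ⟨g, by simp [hg], two_le_agree (i := i) (j := A i) (fun e => hi (by rw [← e, ← e])) ?_ ?_⟩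
  · exact (conj_edge (hgx 0) (hgx 1)).symm
  · exact (conj_edge (hgx 1) (hgx 2)).symm

theorem two_edges (A B : Perm (Fin n)) (hA : 4 ≤ n - nfix A) (hB : 4 ≤ n - nfix B) (hinv : ∀ z, B (B z) = z) :
    ∃ g ∈ Ev n, 2 ≤ agree A (g * B * g⁻¹) := by
  classical
  obtain ⟨i, j, hyi⟩ := exists_two_edges A hA
  obtain ⟨u, u', hxi⟩ := exists_two_edges B hB
  let e : {z // z ∈ Set.range ![u, B u, u', B u']} ≃ {z // z ∈ Set.range ![i, A i, j, A j]} :=
    (Equiv.ofInjective _ hxi).symm.trans (Equiv.ofInjective _ hyi)
  have he : ∀ k, e.extendSubtype (![u, B u, u', B u'] k) = ![i, A i, j, A j] k := fun k => by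
    rw [Equiv.extendSubtype_apply_of_mem _ _ (Set.mem_range_self k)]
    simp [e]
  set g := e.extendSubtype
  have hij : i ≠ j := fun h => by simpa using hyi (a₁ := 0) (a₂ := 2) h
  have hagree : 2 ≤ agree A (g * B * g⁻¹) :=
    two_le_agree hij (conj_edge (he 0) (he 1)).symm (conj_edge (he 2) (he 3)).symm
  have hu : u ≠ B u := fun h => by simpa using hxi (a₁ := 0) (a₂ := 1) h
  rcases exists_even_conj (g := g) (Perm.sign_swap hu) with hs | hs
  · exact ⟨g, by simp [hs], hagree⟩
  · have hcom : Equiv.swap u (B u) * B = B * Equiv.swap u (B u) := by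
      rw [Equiv.mul_swap_eq_swap_mul, hinv, Equiv.swap_comm]
    refine ⟨g * Equiv.swap u (B u), by simp [hs], ?_⟩
    rwa [mul_assoc g, hcom, mul_inv_rev, ← mul_assoc g, mul_assoc (g * B), mul_inv_cancel_left]

theorem fix_and_edge (hn : 5 ≤ n) (A B : Perm (Fin n)) (hA : A ≠ 1) (hB : B ≠ 1) (hfA : 1 ≤ nfix A)
    (hfB : 1 ≤ nfix B) : ∃ g ∈ Ev n, 2 ≤ agree A (g * B * g⁻¹) := by
  classical
  have pick : ∀ C : Perm (Fin n), C ≠ 1 → 1 ≤ nfix C → ∃ p z, C p = p ∧ Function.Injective ![p, z, C z] := by
    intro C hC hf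
    obtain ⟨p, hp⟩ := Finset.card_pos.1 (show 0 < (Finset.univ.filter fun i => C i = i).card from hf)
    simp only [Finset.mem_filter, Finset.mem_univ, true_and] at hp
    obtain ⟨z, hz⟩ : ∃ z, C z ≠ z := by
      by_contra h
      push Not at h
      exact hC (Equiv.ext h)
    refine ⟨p, z, hp, fun x y h => ?_⟩
    have h1 : p ≠ z := fun e => hz (by rw [← e, hp])
    have h2 : p ≠ C z := fun e => h1 (C.injective (hp.trans e))
    fin_cases x <;> fin_cases y <;> simp at h ⊢ <;>
      first | exact h1 h | exact h2 h | exact h1 h.symm | exact h2 h.symm | exact hz h | exact hz h.symm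
  obtain ⟨p, i, hp, hyi⟩ := pick A hA hfA
  obtain ⟨r, u, hr, hxi⟩ := pick B hB hfB
  obtain ⟨g, hg, hgx⟩ := exists_even_tuple (by omega) _ _ hxi hyi
  have g0 : g r = p := hgx 0
  have hpi : p ≠ i := fun h => by simpa using hyi (a₁ := 0) (a₂ := 1) h
  refine ⟨g, by simp [hg], two_le_agree hpi ?_ (conj_edge (hgx 1) (hgx 2)).symm⟩
  exact hp.trans (conj_edge g0 (hr.symm ▸ g0)).symm

/-- The agreement is not constant. -/
theorem not_const (hn : 5 ≤ n) (A B : Perm (Fin n)) (hA : A ≠ 1) (hB : B ≠ 1) (hle : nfix A ≤ nfix B)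
    (c : ℕ) (hc : ∀ g ∈ Ev n, agree A (g * B * g⁻¹) = c) : False := by
  classical
  have hav := average hn A B
  rw [Finset.sum_congr rfl hc, Finset.sum_const, smul_eq_mul] at hav
  have hpos : 0 < (Ev n).card := Finset.card_pos.2 ⟨1, by simp⟩
  have hav' : n * (n - 1) * c = (n - 1) * (nfix A * nfix B) + (n - nfix A) * (n - nfix B) :=
    Nat.eq_of_mul_eq_mul_left hpos (by rw [← hav]; ring)
  have hfA := nfix_lt A hA
  have hfB := nfix_lt B hB
  obtain ⟨m, hm⟩ : ∃ m, n = m + 1 := ⟨n - 1, by omega⟩
  obtain ⟨dA, hdA⟩ : ∃ d, n = nfix A + d := ⟨n - nfix A, by omega⟩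
  obtain ⟨dB, hdB⟩ : ∃ d, n = nfix B + d := ⟨n - nfix B, by omega⟩
  rw [show n - 1 = m by omega, show n - nfix A = dA by omega, show n - nfix B = dB by omega] at hav'
  -- nested fixed sets
  obtain ⟨S, hS, hScard⟩ := Finset.exists_subset_card_eq (show nfix A ≤ (Finset.univ.filter fun i => B i = i).card from hle)
  let T := Finset.univ.filter fun i => A i = i
  have hST : S.card = T.card := hScard
  rcases Nat.eq_zero_or_pos (nfix A) with h0 | h0
  · -- no fixed point
    rw [h0] at hav' hdA
    have hdA' : dA = n := by omega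
    rw [hdA'] at hav'
    have hc' : m * c = dB := Nat.eq_of_mul_eq_mul_left (show 0 < n by omega) (by
      simp only [zero_mul, mul_zero, zero_add] at hav'
      rw [← hav']; ring)
    rcases (show c = 0 ∨ c = 1 ∨ 2 ≤ c by omega) with hc0 | hc1 | hc2
    · rw [hc0, mul_zero] at hc'; omega
    · have hB1 : nfix B = 1 := by rw [hc1, mul_one] at hc'; omega
      -- two agreements
      have hAmov : ∀ i, A i ≠ i := fun i h => by
        have : i ∈ T := by simp [T, h]
        have h2 : T.card = 0 := h0
        rw [Finset.card_eq_zero.1 h2] at this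
        simp at this
      obtain ⟨g, hg, hge⟩ : ∃ g ∈ Ev n, 2 ≤ agree A (g * B * g⁻¹) := by
        have hsA : 4 ≤ n - nfix A := by omega
        have hsB : 4 ≤ n - nfix B := by omega
        by_cases hpA : ∃ i, A (A i) ≠ i
        · by_cases hpB : ∃ u, B (B u) ≠ u
          · exact two_paths hn A B hpA hpB
          · push Not at hpB
            exact two_edges A B hsA hsB hpB
        · push Not at hpA
          obtain ⟨g, hg, h⟩ := two_edges B A hsB hsA hpA
          refine ⟨g⁻¹, by simpa using hg, ?_⟩
          rw [agree_comm, ← agree_conj g] 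
          simpa [mul_assoc] using h
      rw [hc g hg, hc1] at hge
      omega
    · have : m * 2 ≤ m * c := Nat.mul_le_mul_left m hc2
      omega
  · -- nested fixed sets
    have hfixS : ∀ i ∈ S, B i = i := fun i hi => by simpa using hS hi
    have hTA : ∀ i ∈ T, A i = i := fun i hi => by simpa [T] using hi
    obtain ⟨g, hg, hgS⟩ := exists_even_tuple (k := nfix A) (by omega) (fun k => (S.equivFinOfCardEq hScard).symm k)
      (fun k => (T.equivFinOfCardEq rfl).symm k) (Subtype.val_injective.comp (Equiv.injective _))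
      (Subtype.val_injective.comp (Equiv.injective _))
    have hagree : nfix A ≤ agree A (g * B * g⁻¹) := by
      refine Finset.card_le_card fun i hi => ?_
      simp only [Finset.mem_filter, Finset.mem_univ, true_and] at hi ⊢
      obtain ⟨k, hk⟩ := (T.equivFinOfCardEq rfl).symm.surjective ⟨i, by simp [T, hi]⟩
      have h1 := hgS k
      rw [hk] at h1
      simp only [Perm.mul_apply, Perm.inv_def]
      have h1' : g ((S.equivFinOfCardEq hScard).symm k) = i := h1
      rw [show g.symm i = ((S.equivFinOfCardEq hScard).symm k : Fin n) from g.symm_apply_eq.2 h1'.symm,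
        hfixS _ ((S.equivFinOfCardEq hScard).symm k).2, h1', hi]
    rw [hc g (by simp [hg])] at hagree
    rcases (show nfix A = 1 ∨ 2 ≤ nfix A by omega) with h1 | h2
    · -- exactly one fixed point
      rw [h1] at hav' hdA
      have hdA' : dA = m := by omega
      rw [hdA'] at hav'
      have hc1 : c = 1 := by
        have e : n * c = n * 1 := Nat.eq_of_mul_eq_mul_left (show 0 < m by omega) (by
          calc m * (n * c) = n * m * c := by ring
            _ = m * (1 * nfix B) + m * dB := hav'
            _ = m * (n * 1) := by rw [one_mul, mul_one, ← Nat.mul_add, ← hdB])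
        exact Nat.eq_of_mul_eq_mul_left (show 0 < n by omega) e
      obtain ⟨g, hg, h⟩ := fix_and_edge hn A B hA hB (by omega) (by omega)
      rw [hc g hg, hc1] at h
      omega
    · -- at least two fixed points
      have h3 : n * m * c < n * m * nfix A + 0 := by
        rw [hav', add_zero]
        have e : n * m * nfix A = m * (nfix A * nfix B) + m * nfix A * dB := by
          calc n * m * nfix A = m * nfix A * n := by ring
            _ = m * nfix A * (nfix B + dB) := by rw [← hdB]
            _ = _ := by ring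
        rw [e]
        refine Nat.add_lt_add_left (Nat.mul_lt_mul_of_pos_right ?_ (by omega)) _
        have : m * 2 ≤ m * nfix A := Nat.mul_le_mul_left m h2
        omega
      have := Nat.mul_le_mul_left (n * m) hagree
      omega

theorem exists_two_conjugates (hn : 5 ≤ n) (a b : Perm (Fin n)) (ha : a ≠ 1) (hb : b ≠ 1) :
    ∃ g₁ g₂ : Perm (Fin n), g₁ ∈ Ev n ∧ g₂ ∈ Ev n ∧
      agree a⁻¹ (g₁ * b * g₁⁻¹) ≠ agree a⁻¹ (g₂ * b * g₂⁻¹) := by
  by_contra hcon
  push Not at hcon
  have h1 : (1 : Perm (Fin n)) ∈ Ev n := by simp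
  have hconst : ∀ g ∈ Ev n, agree a⁻¹ (g * b * g⁻¹) = agree a⁻¹ b := fun g hg => by
    simpa using hcon g 1 hg h1
  rcases le_total (nfix a⁻¹) (nfix b) with h | h
  · exact not_const hn a⁻¹ b (inv_ne_one.2 ha) hb h _ hconst
  · refine not_const hn b a⁻¹ hb (inv_ne_one.2 ha) h (agree a⁻¹ b) fun g hg => ?_
    rw [agree_comm, ← agree_conj g⁻¹, ← hconst g⁻¹ (by simpa using hg)]
    simp [mul_assoc]

end Cfsg.Agent.Lib.Perm.ClassProductFix
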